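import Mathlib

/-!
# Exponents of commuting unipotent elements in characteristic 3 (helper356, S3464)
-/

set_option autoImplicit false
set_option linter.unusedSectionVars false

namespace Cfsg.Agent.H356.U3

open Finset

section Ident

variable {R : Type*} [CommRing R] [CharP R 3]

theorem key_pow_char (i : ℕ) (A B C : R) :
    ((1 + A) * (1 + B) * (1 + C) - 1) ^ 3 ^ i =
      (1 + A ^ 3 ^ i) * (1 + B ^ 3 ^ i) * (1 + C ^ 3 ^ i) - 1 := by
  have : Fact (Nat.Prime 3) := ⟨Nat.prime_three⟩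
  rw [sub_pow_char_pow, mul_pow, mul_pow, add_pow_char_pow, add_pow_char_pow, add_pow_char_pow]
  simp

/-- **The commutative identity.** -/
theorem key_ident {i : ℕ} {A B C Y Q : R} {a b c : ℕ} (hA : A ^ (3 ^ i + a + 1) = 0)
    (hB : B ^ (3 ^ i + b + 1) = 0) (hC : C ^ (3 ^ i + c + 1) = 0) (hY : Y * Q = Q) :
    ((1 + A) * (1 + B) * (1 + C) * Y - 1) ^ (3 ^ (i + 1) - 1) * (A ^ a * B ^ b * C ^ (c + 1) * Q) =
      2 * (A ^ (3 ^ i + a) * B ^ (3 ^ i + b) * C ^ (3 ^ i + c) * Q) := by
  obtain ⟨q, hq⟩ : ∃ q : ℕ, 3 ^ i = q + 1 := ⟨3 ^ i - 1, by have : 0 < 3 ^ i := by positivity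
                                                            omega⟩
  have hq3 : 3 ^ (i + 1) - 1 = q + 3 ^ i + 3 ^ i := by rw [pow_succ]; omega
  set E := (1 + A) * (1 + B) * (1 + C) - 1 with hE
  -- replace `Y` by 1
  have h1 : ∀ m : ℕ, ((1 + A) * (1 + B) * (1 + C) * Y - 1) ^ m * Q = E ^ m * Q := by
    intro m
    induction m with
    | zero => rw [pow_zero, pow_zero]
    | succ m ih =>
      have h2 : ((1 + A) * (1 + B) * (1 + C) * Y - 1) * Q = E * Q := by
        rw [hE]
        linear_combination ((1 + A) * (1 + B) * (1 + C)) * hY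
      calc ((1 + A) * (1 + B) * (1 + C) * Y - 1) ^ (m + 1) * Q
          = ((1 + A) * (1 + B) * (1 + C) * Y - 1) ^ m * (((1 + A) * (1 + B) * (1 + C) * Y - 1) * Q) := by ring
        _ = E * (((1 + A) * (1 + B) * (1 + C) * Y - 1) ^ m * Q) := by rw [h2]; ring
        _ = E ^ (m + 1) * Q := by rw [ih]; ring
  have h3 : ((1 + A) * (1 + B) * (1 + C) * Y - 1) ^ (3 ^ (i + 1) - 1) * (A ^ a * B ^ b * C ^ (c + 1) * Q) =
      E ^ (3 ^ (i + 1) - 1) * (A ^ a * B ^ b * C ^ (c + 1) * Q) := by
    calc _ = (A ^ a * B ^ b * C ^ (c + 1)) * (((1 + A) * (1 + B) * (1 + C) * Y - 1) ^ (3 ^ (i + 1) - 1) * Q) := by ring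
      _ = _ := by rw [h1]; ring
  rw [h3, hq3, pow_add, pow_add]
  have hEq := key_pow_char i A B C
  rw [← hE] at hEq
  rw [hEq]
  -- zero products
  have zA : ∀ m : ℕ, A ^ (3 ^ i + a + 1 + m) = 0 := fun m => by rw [pow_add, hA, zero_mul]
  have zB : ∀ m : ℕ, B ^ (3 ^ i + b + 1 + m) = 0 := fun m => by rw [pow_add, hB, zero_mul]
  have hC' : C ^ 3 ^ i * C ^ (c + 1) = 0 := by
    rw [← pow_add]
    exact hC
  have hA2 : A ^ 3 ^ i * (A ^ 3 ^ i * A ^ a) = 0 := by
    rw [← pow_add, ← pow_add, hq]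
    have := zA q
    rw [hq] at this
    rw [← this]
    congr 1
    omega
  have hB2 : B ^ 3 ^ i * (B ^ 3 ^ i * B ^ b) = 0 := by
    rw [← pow_add, ← pow_add, hq]
    have := zB q
    rw [hq] at this
    rw [← this]
    congr 1
    omega
  set α := A ^ 3 ^ i with hα
  set β := B ^ 3 ^ i with hβ
  set γ := C ^ 3 ^ i with hγ
  have h4 : ((1 + α) * (1 + β) * (1 + γ) - 1) * ((1 + α) * (1 + β) * (1 + γ) - 1) * (A ^ a * B ^ b * C ^ (c + 1) * Q) =
      2 * ((α * A ^ a) * (β * B ^ b) * C ^ (c + 1) * Q) := by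
    linear_combination
      (A ^ a * B ^ b * Q * (1 + α) * (1 + β) * (2 * ((1 + α) * (1 + β) - 1) + (1 + α) * (1 + β) * γ)) * hC' +
      (B ^ b * C ^ (c + 1) * Q * (1 + β) ^ 2) * hA2 + (A ^ a * C ^ (c + 1) * Q * (1 + 2 * α)) * hB2
  have h5 : ∀ (m : ℕ) (Z : R), E ^ m * ((α * A ^ a) * (β * B ^ b) * Z) = (α * A ^ a) * (β * B ^ b) * (C ^ m * Z) := by
    have hA1 : A * (α * A ^ a) = 0 := by
      rw [hα, ← pow_add, ← pow_succ']
      exact hA
    have hB1 : B * (β * B ^ b) = 0 := by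
      rw [hβ, ← pow_add, ← pow_succ']
      exact hB
    intro m
    induction m with
    | zero => intro Z; rw [pow_zero, pow_zero, one_mul, one_mul]
    | succ m ih =>
      intro Z
      have h6 : E * ((α * A ^ a) * (β * B ^ b) * Z) = (α * A ^ a) * (β * B ^ b) * (C * Z) := by
        rw [hE]
        linear_combination (β * B ^ b * Z * (1 + B) * (1 + C)) * hA1 + ((α * A ^ a) * Z * (1 + C)) * hB1
      calc E ^ (m + 1) * ((α * A ^ a) * (β * B ^ b) * Z) = E ^ m * (E * ((α * A ^ a) * (β * B ^ b) * Z)) := by ring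
        _ = E ^ m * ((α * A ^ a) * (β * B ^ b) * (C * Z)) := by rw [h6]
        _ = _ := by rw [ih]; ring
  calc E ^ q * ((1 + α) * (1 + β) * (1 + γ) - 1) * ((1 + α) * (1 + β) * (1 + γ) - 1) * (A ^ a * B ^ b * C ^ (c + 1) * Q)
      = E ^ q * (((1 + α) * (1 + β) * (1 + γ) - 1) * ((1 + α) * (1 + β) * (1 + γ) - 1) *
        (A ^ a * B ^ b * C ^ (c + 1) * Q)) := by ring
    _ = 2 * (E ^ q * ((α * A ^ a) * (β * B ^ b) * (C ^ (c + 1) * Q))) := by rw [h4]; ring
    _ = 2 * ((α * A ^ a) * (β * B ^ b) * (C ^ q * (C ^ (c + 1) * Q))) := by rw [h5]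
    _ = _ := by
      have h6 : C ^ (3 ^ i + c) = C ^ q * C ^ (c + 1) := by rw [← pow_add]; congr 1; omega
      rw [h6, pow_add, pow_add]
      ring

end Ident

section Rep

variable {F : Type*} [Field F] [CharP F 3] {V : Type*} [AddCommGroup V] [Module F V]
variable {H : Type*} [Group H] {τ : Type*} [Fintype τ] [DecidableEq τ]

/-- **Pure products.** -/
theorem pure_product {ρ : (τ → H) →* Module.End F V}
    (hmin : ∀ Y : Submodule F V, (∀ g, ∀ w ∈ Y, ρ g w ∈ Y) → Y = ⊥ ∨ Y = ⊤) {j : τ} {a T : Module.End F V}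
    (ha : ∀ g : τ → H, g j = 1 → Commute a (ρ g)) (hT : ∀ h : H, Commute T (ρ (Pi.mulSingle j h)))
    (h1 : a ≠ 0) (h2 : T ≠ 0) : a * T ≠ 0 := by
  intro h0
  let Y : Submodule F V :=
    { carrier := {w | ∀ h : H, a (ρ (Pi.mulSingle j h) w) = 0}
      add_mem' := by
        intro x y hx hy h
        rw [map_add, map_add, hx h, hy h, add_zero]
      zero_mem' := by
        intro h
        rw [map_zero, map_zero]
      smul_mem' := by
        intro c x hx h
        rw [map_smul, map_smul, hx h, smul_zero] }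
  have hYinv : ∀ g, ∀ w ∈ Y, ρ g w ∈ Y := by
    intro g w hw h
    -- `single j h * g = g' * single j (h * g j)`
    have h3 : Pi.mulSingle j h * g = Function.update g j 1 * Pi.mulSingle j (h * g j) := by
      funext l
      by_cases hl : l = j
      · subst hl; simp
      · simp [hl]
    rw [← Module.End.mul_apply (ρ _) (ρ g), ← map_mul, h3, map_mul, Module.End.mul_apply,
      ← Module.End.mul_apply a, (ha _ (by simp)).eq, Module.End.mul_apply, hw, map_zero]
  rcases hmin Y hYinv with h | h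
  · apply h2
    ext w
    have h3 : T w ∈ Y := by
      intro h'
      rw [← Module.End.mul_apply (ρ _) T, ← (hT h').eq, Module.End.mul_apply, ← Module.End.mul_apply a T, h0]
      rfl
    rw [h, Submodule.mem_bot] at h3
    rw [h3]
    rfl
  · apply h1
    ext w
    have h3 : w ∈ Y := by rw [h]; trivial
    have h4 := h3 1
    rw [Pi.mulSingle_one, map_one] at h4
    exact h4

theorem exists_top_pow {R : Type*} [Ring R] [Nontrivial R] {x : R} {m : ℕ} (h : x ^ m = 0) :
    ∃ d : ℕ, x ^ d ≠ 0 ∧ x ^ (d + 1) = 0 := by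
  classical
  have hex : ∃ m : ℕ, x ^ m = 0 := ⟨m, h⟩
  have h1 := Nat.find_spec hex
  obtain ⟨d, hd⟩ : ∃ d, Nat.find hex = d + 1 := by
    rcases Nat.eq_zero_or_pos (Nat.find hex) with h2 | h2
    · rw [h2, pow_zero] at h1
      exact absurd h1 one_ne_zero
    · exact ⟨Nat.find hex - 1, by omega⟩
  refine ⟨d, Nat.find_min hex (by omega), ?_⟩
  rw [← hd]
  exact h1

/-- the irreducible case -/
theorem expo_irr [Nontrivial V] {ρ : (τ → H) →* Module.End F V}
    (hmin : ∀ Y : Submodule F V, (∀ g, ∀ w ∈ Y, ρ g w ∈ Y) → Y = ⊥ ∨ Y = ⊤)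
    {v z : H} {i : ℕ} (hv : v ^ 3 ^ (i + 1) = 1)
    (hz : ∀ K : Subgroup H, K.Normal → v ^ 3 ^ i ∈ K → z ∈ K) {a b c : τ} (hab : a ≠ b) (hac : a ≠ c) (hbc : b ≠ c)
    (ha : ρ (Pi.mulSingle a z) = -1) (hb : ρ (Pi.mulSingle b z) = -1) (hc : ρ (Pi.mulSingle c z) = -1) :
    (ρ (fun _ => v) - 1) ^ (3 ^ (i + 1) - 1) ≠ 0 := by
  classical
  have fact3 : Fact (Nat.Prime 3) := ⟨Nat.prime_three⟩
  have hnt : Nontrivial (Module.End F V) := inferInstance
  let S : Set (Module.End F V) := Set.range fun j : τ => ρ (Pi.mulSingle j v)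
  have hS : ∀ x ∈ S, ∀ y ∈ S, x * y = y * x := by
    rintro _ ⟨j, rfl⟩ _ ⟨l, rfl⟩
    show ρ _ * ρ _ = ρ _ * ρ _
    rw [← map_mul, ← map_mul]
    congr 1
    by_cases h : j = l
    · subst h; rfl
    · exact (Pi.mulSingle_commute (f := fun _ => H) h v v).eq
  let _ : CommRing (Algebra.adjoin F S) := Algebra.adjoinCommRingOfComm F hS
  have hchar : CharP (Algebra.adjoin F S) 3 :=
    charP_of_injective_algebraMap (FaithfulSMul.algebraMap_injective F (Algebra.adjoin F S)) 3
  let x : τ → Algebra.adjoin F S := fun j => ⟨ρ (Pi.mulSingle j v), Algebra.subset_adjoin ⟨j, rfl⟩⟩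
  have hx : ∀ j, ((x j : Algebra.adjoin F S) : Module.End F V) = ρ (Pi.mulSingle j v) := fun j => rfl
  have hxpow : ∀ j m, ((x j ^ m : Algebra.adjoin F S) : Module.End F V) = ρ (Pi.mulSingle j (v ^ m)) := by
    intro j m
    rw [SubmonoidClass.coe_pow, hx, ← map_pow, Pi.mulSingle_pow]
  have hnil : ∀ j, (x j - 1) ^ 3 ^ (i + 1) = 0 := by
    intro j
    rw [sub_pow_char_pow, one_pow, sub_eq_zero]
    apply Subtype.ext
    rw [hxpow, hv, Pi.mulSingle_one, map_one]
    rfl
  choose d hd0 hd1 using fun j => exists_top_pow (hnil j)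
  -- the exponent of a block with `-1`
  have hlow : ∀ j, ρ (Pi.mulSingle j z) = -1 → 3 ^ i ≤ d j := by
    intro j hj
    by_contra hcon
    push Not at hcon
    have h1 : (x j - 1) ^ 3 ^ i = 0 := by
      obtain ⟨e, he⟩ := Nat.exists_eq_add_of_lt hcon
      rw [he, show d j + e + 1 = (d j + 1) + e by ring, pow_add, hd1, zero_mul]
    rw [sub_pow_char_pow, one_pow, sub_eq_zero] at h1
    have h2 : ρ (Pi.mulSingle j (v ^ 3 ^ i)) = 1 := by
      rw [← hxpow, h1]
      rfl
    let f : H →* Module.End F V := ρ.comp (MonoidHom.mulSingle (fun _ => H) j)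
    have h3 := hz f.ker inferInstance h2
    have h4 : ρ (Pi.mulSingle j z) = 1 := h3
    rw [hj] at h4
    have h5 : (2 : F) • (1 : Module.End F V) = 0 := by
      rw [two_smul]
      nth_rewrite 1 [← h4]
      exact neg_add_cancel _
    rcases smul_eq_zero.1 h5 with h6 | h6
    · have h7 : ((2 : ℕ) : F) = 0 := by exact_mod_cast h6
      rw [CharP.cast_eq_zero_iff F 3] at h7
      omega
    · exact one_ne_zero h6
  -- products
  have hprod : ∀ s : Finset τ, (∏ j ∈ s, (x j - 1) ^ d j) ≠ 0 ∧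
      ∀ l ∉ s, ∀ h : H, Commute ((∏ j ∈ s, (x j - 1) ^ d j : Algebra.adjoin F S) : Module.End F V)
        (ρ (Pi.mulSingle l h)) := by
    intro s
    induction s using Finset.induction_on with
    | empty =>
      refine ⟨?_, ?_⟩
      · rw [prod_empty]
        exact one_ne_zero
      · intro l _ h
        rw [prod_empty]
        exact Commute.one_left _
    | insert j s hj ih =>
      obtain ⟨ih1, ih2⟩ := ih
      have hcoe : ((∏ l ∈ insert j s, (x l - 1) ^ d l : Algebra.adjoin F S) : Module.End F V) =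
          (((x j - 1) ^ d j : Algebra.adjoin F S) : Module.End F V) *
            ((∏ l ∈ s, (x l - 1) ^ d l : Algebra.adjoin F S) : Module.End F V) := by
        rw [prod_insert hj]
        rfl
      have hcomm : ∀ g : τ → H, g j = 1 → Commute (((x j - 1) ^ d j : Algebra.adjoin F S) : Module.End F V) (ρ g) := by
        intro g hg
        rw [SubmonoidClass.coe_pow]
        apply Commute.pow_left
        have h1 : ((x j - 1 : Algebra.adjoin F S) : Module.End F V) = ρ (Pi.mulSingle j v) - 1 := rfl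
        rw [h1]
        apply Commute.sub_left _ (Commute.one_left _)
        show ρ _ * ρ _ = ρ _ * ρ _
        rw [← map_mul, ← map_mul]
        congr 1
        funext l
        by_cases hl : l = j
        · subst hl; simp [hg]
        · simp [hl]
      refine ⟨?_, ?_⟩
      · intro h0
        have h1 := pure_product hmin (j := j) hcomm (fun h => ih2 j hj h)
          (fun h => hd0 j (Subtype.ext h)) (fun h => ih1 (Subtype.ext h))
        apply h1
        rw [← hcoe, h0]
        rfl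
      · intro l hl h
        rw [mem_insert, not_or] at hl
        rw [hcoe]
        refine Commute.mul_left ?_ (ih2 l hl.2 h)
        apply hcomm
        simp [Ne.symm hl.1]
  -- the value of `∏ x j`
  have hU : ρ (fun _ => v) = ((∏ j, x j : Algebra.adjoin F S) : Module.End F V) := by
    have key : ∀ s : Finset τ, ρ (fun j => if j ∈ s then v else 1) =
        ((∏ j ∈ s, x j : Algebra.adjoin F S) : Module.End F V) := by
      intro s
      induction s using Finset.induction_on with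
      | empty =>
        rw [prod_empty]
        have : (fun j : τ => if j ∈ (∅ : Finset τ) then v else 1) = 1 := by
          funext j
          simp
        rw [this, map_one]
        rfl
      | insert j s hj ih =>
        rw [prod_insert hj]
        have h1 : (fun l : τ => if l ∈ insert j s then v else 1) =
            Pi.mulSingle j v * fun l => if l ∈ s then v else 1 := by
          funext l
          by_cases hl : l = j
          · subst hl; simp [hj]
          · simp [hl]
        rw [h1, map_mul, ih]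
        rfl
    have := key univ
    simpa using this
  intro h0
  have h1 : ((∏ j, x j) - 1) ^ (3 ^ (i + 1) - 1) = 0 := by
    apply Subtype.ext
    rw [hU] at h0
    exact h0
  obtain ⟨ea, hea⟩ := Nat.exists_eq_add_of_le (hlow a ha)
  obtain ⟨eb, heb⟩ := Nat.exists_eq_add_of_le (hlow b hb)
  obtain ⟨ec, hec⟩ := Nat.exists_eq_add_of_le (hlow c hc)
  -- split the product
  have hsplit : ∀ f : τ → Algebra.adjoin F S, ∏ j, f j = f a * f b * f c * ∏ j ∈ ((univ.erase a).erase b).erase c, f j := by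
    intro f
    rw [← mul_prod_erase univ f (mem_univ a), ← mul_prod_erase (univ.erase a) f (mem_erase.2 ⟨hab.symm, mem_univ b⟩),
      ← mul_prod_erase ((univ.erase a).erase b) f (mem_erase.2 ⟨hbc.symm, mem_erase.2 ⟨hac.symm, mem_univ c⟩⟩)]
    ring
  set T := ((univ.erase a).erase b).erase c with hT
  have hYQ : ∀ s ⊆ T, (∏ j ∈ s, x j) * (∏ j ∈ T, (x j - 1) ^ d j) = ∏ j ∈ T, (x j - 1) ^ d j := by
    intro s
    induction s using Finset.induction_on with
    | empty =>
      intro _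
      rw [prod_empty, one_mul]
    | insert j s hj ih =>
      intro hs
      rw [prod_insert hj, mul_assoc, ih (fun l hl => hs (mem_insert_of_mem hl))]
      have hjT : j ∈ T := hs (mem_insert_self _ _)
      rw [← mul_prod_erase T _ hjT]
      have h2 := hd1 j
      rw [pow_succ] at h2
      have h3 : x j * (x j - 1) ^ d j = (x j - 1) ^ d j := by linear_combination h2
      rw [← mul_assoc, h3]
  have hfin := key_ident (R := Algebra.adjoin F S) (i := i) (A := x a - 1) (B := x b - 1) (C := x c - 1)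
    (Y := ∏ j ∈ T, x j) (Q := ∏ j ∈ T, (x j - 1) ^ d j) (a := ea) (b := eb) (c := ec)
    (by rw [← hea]; exact hd1 a) (by rw [← heb]; exact hd1 b) (by rw [← hec]; exact hd1 c) (hYQ T (Subset.refl _))
  have h2 : (1 + (x a - 1)) * (1 + (x b - 1)) * (1 + (x c - 1)) * (∏ j ∈ T, x j) = ∏ j, x j := by
    rw [hsplit x]
    ring
  rw [h2, h1, zero_mul, ← hea, ← heb, ← hec, ← hsplit (fun j => (x j - 1) ^ d j)] at hfin
  have h3 : (2 : F) • (∏ j, (x j - 1) ^ d j) = 0 := by
    rw [two_smul, ← two_mul]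
    exact hfin.symm
  rcases smul_eq_zero.1 h3 with h6 | h6
  · have h7 : ((2 : ℕ) : F) = 0 := by exact_mod_cast h6
    rw [CharP.cast_eq_zero_iff F 3] at h7
    omega
  · exact (hprod univ).1 h6

/-- restriction of a representation to an invariant submodule -/
noncomputable def restr {Γ : Type*} [Group Γ] (ρ : Γ →* Module.End F V) (X : Submodule F V)
    (h : ∀ g, ∀ w ∈ X, ρ g w ∈ X) : Γ →* Module.End F X where
  toFun g := (ρ g).restrict (h g)
  map_one' := by
    ext w
    simp
  map_mul' g g' := by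
    ext w
    simp

theorem coe_restr {Γ : Type*} [Group Γ] (ρ : Γ →* Module.End F V) (X : Submodule F V)
    (h : ∀ g, ∀ w ∈ X, ρ g w ∈ X) (g : Γ) (w : X) : ((restr ρ X h g w : X) : V) = ρ g w := rfl

/-- **The exponent lemma.** -/
theorem expo [FiniteDimensional F V] {ρ : (τ → H) →* Module.End F V} {W : Submodule F V} (hW : W ≠ ⊥)
    (hinv : ∀ g, ∀ w ∈ W, ρ g w ∈ W) {v z : H} {i : ℕ} (hv : v ^ 3 ^ (i + 1) = 1)
    (hz : ∀ K : Subgroup H, K.Normal → v ^ 3 ^ i ∈ K → z ∈ K) {a b c : τ} (hab : a ≠ b) (hac : a ≠ c) (hbc : b ≠ c)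
    (ha : ∀ w ∈ W, ρ (Pi.mulSingle a z) w = -w) (hb : ∀ w ∈ W, ρ (Pi.mulSingle b z) w = -w)
    (hc : ∀ w ∈ W, ρ (Pi.mulSingle c z) w = -w) :
    ∃ w ∈ W, ((ρ (fun _ => v) - 1) ^ (3 ^ (i + 1) - 1) : Module.End F V) w ≠ 0 := by
  obtain ⟨X, hX, hXmin⟩ := exists_minimal_of_wellFoundedLT
    (fun X : Submodule F V => X ≠ ⊥ ∧ X ≤ W ∧ ∀ g, ∀ w ∈ X, ρ g w ∈ X) ⟨W, hW, le_refl W, hinv⟩
  obtain ⟨hX0, hXW, hXinv⟩ := hX
  have hnt : Nontrivial X := (Submodule.nontrivial_iff_ne_bot).2 hX0
  let ρ' := restr ρ X hXinv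
  have hmin : ∀ Y : Submodule F X, (∀ g, ∀ w ∈ Y, ρ' g w ∈ Y) → Y = ⊥ ∨ Y = ⊤ := by
    intro Y hY
    by_cases h0 : Y = ⊥
    · exact Or.inl h0
    · right
      have h1 : Y.map X.subtype ≤ X := Submodule.map_subtype_le X Y
      have h2 := hXmin (y := Y.map X.subtype) ⟨?_, h1.trans hXW, ?_⟩ h1
      · rw [eq_top_iff]
        rintro ⟨w, hw⟩ -
        obtain ⟨y, hy, hy2⟩ := h2 hw
        have : y = ⟨w, hw⟩ := Subtype.ext hy2
        rw [← this]
        exact hy
      · intro h
        apply h0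
        rw [eq_bot_iff]
        intro y hy
        have h3 : (y : V) ∈ Y.map X.subtype := ⟨y, hy, rfl⟩
        rw [h, Submodule.mem_bot] at h3
        rw [Submodule.mem_bot]
        exact Subtype.ext h3
      · rintro g _ ⟨y, hy, rfl⟩
        exact ⟨ρ' g y, hY g y hy, rfl⟩
  have hneg : ∀ a : τ, (∀ w ∈ W, ρ (Pi.mulSingle a z) w = -w) → ρ' (Pi.mulSingle a z) = -1 := by
    intro a ha
    ext w
    show ρ (Pi.mulSingle a z) (w : V) = _
    rw [ha _ (hXW w.2)]
    rfl
  have h1 := expo_irr (ρ := ρ') hmin hv hz hab hac hbc (hneg a ha) (hneg b hb) (hneg c hc)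
  by_contra hcon
  push Not at hcon
  apply h1
  have h2 : ∀ m : ℕ, ∀ w : X, ((((ρ' (fun _ => v) - 1) ^ m : Module.End F X) w : X) : V) =
      ((ρ (fun _ => v) - 1) ^ m : Module.End F V) (w : V) := by
    intro m
    induction m with
    | zero => intro w; rfl
    | succ m ih =>
      intro w
      rw [pow_succ, pow_succ, Module.End.mul_apply, Module.End.mul_apply, ih]
      rfl
  ext w
  rw [h2, hcon _ (hXW w.2)]
  rfl

end Rep

end Cfsg.Agent.H356.U3
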