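import Cfsg.Agent.H356.U3.Nil
import Cfsg.Agent.H356.U3.Wreath

/-!
# Nine equal blocks (helper356, S3464)
-/

set_option autoImplicit false
set_option linter.unusedSectionVars false

namespace Cfsg.Agent.H356.U3

open Matrix Finset

section Blk

variable {F : Type*} [Field F] [CharP F 3] {ψ : AddChar (ZMod 4) F}
variable {κ : Type*} [Fintype κ] [DecidableEq κ] {τ : Type*} [Fintype τ] [DecidableEq τ]
variable {β : Type*} [Fintype β] [DecidableEq β]

theorem ct_blockDiagonal (M : τ → Matrix κ κ F) :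
    ct (Matrix.blockDiagonal M) = Matrix.blockDiagonal fun j => ct (M j) := by
  rw [ct, Matrix.blockDiagonal_map _ _ (map_zero _), Matrix.blockDiagonal_transpose]
  rfl

/-- block diagonal matrices -/
noncomputable def blk : (τ → G κ F) →* G (κ × τ) F where
  toFun g := mk (Matrix.blockDiagonal fun j => mt (g j))
    (by
      rw [ct_blockDiagonal, ← Matrix.blockDiagonal_mul]
      simp only [mt_ct]
      exact Matrix.blockDiagonal_one)
    (by
      rw [Matrix.det_blockDiagonal]
      exact prod_eq_one fun j _ => mt_det _)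
  map_one' := by
    apply mt_inj
    exact Matrix.blockDiagonal_one
  map_mul' g h := by
    apply mt_inj
    exact Matrix.blockDiagonal_mul (fun j => mt (g j)) (fun j => mt (h j))

theorem mt_blk (g : τ → G κ F) : mt (blk g) = Matrix.blockDiagonal fun j => mt (g j) := rfl

theorem mt_blk_apply (g : τ → G κ F) (x y : κ) (i j : τ) :
    mt (blk g) (x, i) (y, j) = if i = j then mt (g i) x y else 0 := by
  rw [mt_blk, Matrix.blockDiagonal_apply]

/-- the shift of the blocks -/
def shiftPerm (κ : Type*) : Equiv.Perm (κ × ZMod 9) := Equiv.prodCongr (Equiv.refl κ) (Equiv.addRight 1)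

theorem shiftPerm_apply (x : κ) (j : ZMod 9) : shiftPerm κ (x, j) = (x, j + 1) := rfl

theorem shiftPerm_pow (m : ℕ) (x : κ) (j : ZMod 9) : (shiftPerm κ ^ m) (x, j) = (x, j + m) := by
  induction m generalizing j with
  | zero => simp
  | succ m ih =>
    rw [pow_succ, Equiv.Perm.mul_apply, shiftPerm_apply, ih]
    push_cast
    congr 1
    ring

theorem shiftPerm_nine : shiftPerm κ ^ 9 = 1 := by
  ext ⟨x, j⟩ : 1
  rw [shiftPerm_pow]
  have : ((9 : ℕ) : ZMod 9) = 0 := by decide
  rw [this, add_zero]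
  rfl

theorem sign_shiftPerm : Equiv.Perm.sign (shiftPerm κ) = 1 := by
  have h1 : Equiv.Perm.sign (shiftPerm κ) ^ 9 = 1 := by
    rw [← map_pow, shiftPerm_nine, map_one]
  rcases Int.units_eq_one_or (Equiv.Perm.sign (shiftPerm κ)) with h | h
  · exact h
  · rw [h] at h1
    exact absurd h1 (by decide)

theorem ok_of_sign {ι : Type*} [Fintype ι] [DecidableEq ι] (ψ : AddChar (ZMod 4) F) {π : Equiv.Perm ι}
    (h : Equiv.Perm.sign π = 1) : Ok ψ (0 : ι → ZMod 4) π := by
  rw [Ok, h]
  simp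

/-- the shift as an element -/
noncomputable def shiftEl (ψ : AddChar (ZMod 4) F) (κ : Type*) [Fintype κ] [DecidableEq κ] : G (κ × ZMod 9) F :=
  mono (ψ := ψ) 0 (shiftPerm κ) (ok_of_sign ψ sign_shiftPerm)

theorem mt_shiftEl_apply (p q : κ × ZMod 9) : mt (shiftEl ψ κ) p q = if p = shiftPerm κ q then 1 else 0 := by
  rw [shiftEl, mt_mono, mm_apply]
  simp

theorem mm_zero_pow {ι : Type*} [Fintype ι] [DecidableEq ι] (ψ : AddChar (ZMod 4) F) (π : Equiv.Perm ι) (m : ℕ) :
    mm ψ (0 : ι → ZMod 4) π ^ m = mm ψ 0 (π ^ m) := by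
  induction m with
  | zero => rw [pow_zero, pow_zero, mm_one]
  | succ m ih =>
    rw [pow_succ, pow_succ, ih, mm_mul]
    congr 1

theorem shiftEl_nine : shiftEl ψ κ ^ 9 = 1 := by
  apply mt_inj
  rw [mt_pow, shiftEl, mt_mono, mm_zero_pow, shiftPerm_nine, mm_one, mt_one]

theorem shiftEl_blk (g : ZMod 9 → G κ F) : shiftEl ψ κ * blk g = blk (fun j => g (j - 1)) * shiftEl ψ κ := by
  apply mt_inj
  rw [mt_mul, mt_mul]
  ext ⟨x, i⟩ ⟨y, j⟩
  rw [Matrix.mul_apply, Matrix.mul_apply, sum_eq_single (x, i - 1), sum_eq_single (y, j + 1)]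
  · rw [mt_shiftEl_apply, mt_shiftEl_apply, if_pos (by simp [shiftPerm_apply]), if_pos (by simp [shiftPerm_apply]),
      one_mul, mul_one, mt_blk_apply, mt_blk_apply]
    by_cases h : i - 1 = j
    · rw [if_pos h, if_pos (by rw [← h]; ring)]
    · rw [if_neg h, if_neg (fun h2 => h (by rw [h2]; ring))]
  · intro p _ hp
    rw [mt_shiftEl_apply, if_neg, mul_zero]
    intro h
    exact hp h
  · intro h
    exact absurd (mem_univ _) h
  · intro p _ hp
    rw [mt_shiftEl_apply, if_neg, zero_mul]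
    intro h
    apply hp
    obtain ⟨y, l⟩ := p
    rw [shiftPerm_apply, Prod.mk.injEq] at h
    rw [Prod.mk.injEq]
    exact ⟨h.1.symm, by rw [h.2]; ring⟩
  · intro h
    exact absurd (mem_univ _) h

/-- the exponents of `-1` on the block `j` -/
def blkTwo (κ : Type*) [Fintype κ] [DecidableEq κ] (β : Type*) [Fintype β] [DecidableEq β] (hk : Even (Fintype.card κ)) (j : ZMod 9) :
    A ((κ × ZMod 9) ⊕ β) := ⟨Sum.elim (fun p => if p.2 = j then 2 else 0) 0, by
  rw [mem_A, Fintype.sum_sum_type]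
  simp only [Sum.elim_inl, Sum.elim_inr, Pi.zero_apply, sum_const_zero, add_zero]
  rw [Fintype.sum_prod_type]
  simp only [sum_ite_eq', mem_univ, if_true, sum_const, card_univ]
  obtain ⟨m, hm⟩ := hk
  rw [hm, nsmul_eq_mul]
  push_cast
  have : ∀ x : ZMod 4, (x + x) * 2 = 0 := by decide
  exact this _⟩

theorem inl_blk_single (hψ : Function.Injective ψ) (hk : Even (Fintype.card κ)) {z : G κ F} (hz : mt z = -1)
    (j : ZMod 9) : inl (κ := β) (blk (Pi.mulSingle j z)) = d ψ (blkTwo κ β hk j) := by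
  apply mt_inj
  rw [mt_inl, mt_d]
  have h1 : ∀ l : ZMod 9, mt ((Pi.mulSingle j z : ZMod 9 → G κ F) l) =
      Matrix.diagonal fun _ => ψ (if l = j then 2 else 0) := by
    intro l
    by_cases hl : l = j
    · subst hl
      rw [Pi.mulSingle_eq_same, hz, if_pos rfl, psi_two hψ]
      ext a b
      by_cases hab : a = b
      · subst hab; simp
      · simp [hab]
    · rw [Pi.mulSingle_eq_of_ne hl, if_neg hl, mt_one, AddChar.map_zero_eq_one, ← Matrix.diagonal_one]
  ext p q
  rcases p with ⟨x, i⟩ | p <;> rcases q with ⟨y, l⟩ | q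
  · rw [Matrix.fromBlocks_apply₁₁, mt_blk_apply, h1, Matrix.diagonal_apply, Matrix.diagonal_apply]
    by_cases h2 : i = l
    · by_cases h3 : x = y
      · subst h2; subst h3
        rw [if_pos rfl, if_pos rfl, if_pos rfl]
        rfl
      · rw [if_pos h2, if_neg h3, if_neg]
        intro h4
        exact h3 (Prod.mk.inj (Sum.inl.inj h4)).1
    · rw [if_neg h2, if_neg]
      intro h4
      exact h2 (Prod.mk.inj (Sum.inl.inj h4)).2
  · rw [Matrix.fromBlocks_apply₁₂, Matrix.diagonal_apply]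
    simp
  · rw [Matrix.fromBlocks_apply₂₁, Matrix.diagonal_apply]
    simp
  · rw [Matrix.fromBlocks_apply₂₂, Matrix.diagonal_apply, Matrix.one_apply]
    simp only [Sum.inr.injEq]
    have : ψ ((blkTwo κ β hk j).1 (Sum.inr p)) = 1 := AddChar.map_zero_eq_one ψ
    rw [this]

/-- **Case A, one arrangement.** -/
theorem blocks_sum {V : Type*} [AddCommGroup V] [Module F V] [FiniteDimensional F V] (hψ : Function.Injective ψ)
    (hk : Even (Fintype.card κ)) {v z : G κ F} (hzm : mt z = -1) {i : ℕ} (hv : v ^ 3 ^ (i + 1) = 1)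
    (hz : ∀ K : Subgroup (G κ F), K.Normal → v ^ 3 ^ i ∈ K → z ∈ K)
    {ρ : G ((κ × ZMod 9) ⊕ β) F →* Module.End F V} {μ : (κ × ZMod 9) ⊕ β → ZMod 4} (hμ : IsWt ψ ρ μ)
    (hb : ∀ j : ZMod 9, ∑ x : κ, 2 * μ (Sum.inl (x, j)) = if j.val < 4 then 2 else 0) :
    ∃ u : G ((κ × ZMod 9) ⊕ β) F, u ^ 3 ^ (i + 3) = 1 ∧ ∑ l ∈ range (3 ^ (i + 3)), ρ (u ^ l) ≠ 0 := by
  obtain ⟨w₀, hw₀, h0⟩ := hμ
  have hzc : ∀ h : G κ F, Commute z h := by
    intro h
    apply mt_inj
    rw [mt_mul, mt_mul, hzm]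
    simp
  refine wreath_sum (inl.comp blk) (s := inl (shiftEl ψ κ)) ?_ ?_ hzc hv hz h0 ?_
  · rw [← map_pow, shiftEl_nine, map_one]
  · intro g
    show inl _ * inl _ = inl _ * inl _
    rw [← map_mul, ← map_mul, shiftEl_blk]
  · intro j
    show ρ (inl (blk (Pi.mulSingle j z))) w₀ = _
    rw [inl_blk_single hψ hk hzm, hw₀]
    congr 1
    have h1 : pr μ (blkTwo κ β hk j) = if j.val < 4 then 2 else 0 := by
      rw [← hb j, pr, Fintype.sum_sum_type]
      have h2 : ∀ b : β, μ (Sum.inr b) * (blkTwo κ β hk j).1 (Sum.inr b) = 0 := fun b => mul_zero _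
      simp only [h2, sum_const_zero, add_zero]
      rw [Fintype.sum_prod_type]
      refine sum_congr rfl fun x _ => ?_
      rw [sum_eq_single j]
      · have : (blkTwo κ β hk j).1 (Sum.inl (x, j)) = 2 := by simp [blkTwo]
        rw [this, mul_comm]
      · intro l _ hl
        have : (blkTwo κ β hk j).1 (Sum.inl (x, l)) = 0 := by simp [blkTwo, hl]
        rw [this, mul_zero]
      · intro h
        exact absurd (mem_univ _) h
    rw [h1, zet]
    by_cases h2 : j.val < 4
    · rw [if_pos h2, if_pos h2, psi_two hψ]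
    · rw [if_neg h2, if_neg h2, AddChar.map_zero_eq_one]

end Blk

end Cfsg.Agent.H356.U3
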