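import Cfsg.Agent.H356.U3.Blk
import Cfsg.Agent.H892.SUCov.UnipT1

/-!
# Case A: weights (helper356, S3464)
-/

set_option autoImplicit false
set_option linter.unusedSectionVars false

namespace Cfsg.Agent.H356.U3

open Matrix Finset

section Arrange

theorem exists_match {X Y : Type*} [Fintype X] [Fintype Y] (P : X → Prop) (Q : Y → Prop) [DecidablePred P]
    [DecidablePred Q] (h1 : Fintype.card X = Fintype.card Y)
    (h2 : (univ.filter P).card = (univ.filter Q).card) : ∃ e : X ≃ Y, ∀ x, P x ↔ Q (e x) := by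
  classical
  have h3 : Fintype.card {x // P x} = Fintype.card {y // Q y} := by
    rw [Fintype.card_subtype, Fintype.card_subtype, h2]
  have h4 : Fintype.card {x // ¬ P x} = Fintype.card {y // ¬ Q y} := by
    rw [Fintype.card_subtype_compl, Fintype.card_subtype_compl, h1, h3]
  let e1 := Fintype.equivOfCardEq h3
  let e2 := Fintype.equivOfCardEq h4
  refine ⟨(Equiv.sumCompl P).symm.trans ((Equiv.sumCongr e1 e2).trans (Equiv.sumCompl Q)), ?_⟩
  intro x
  by_cases hx : P x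
  · have h5 : (Equiv.sumCompl P).symm x = Sum.inl ⟨x, hx⟩ := by
      rw [Equiv.symm_apply_eq]
      rfl
    simp only [Equiv.trans_apply, h5, Equiv.sumCongr_apply, Sum.map_inl, Equiv.sumCompl_apply_inl, hx, true_iff]
    exact (e1 ⟨x, hx⟩).2
  · have h5 : (Equiv.sumCompl P).symm x = Sum.inr ⟨x, hx⟩ := by
      rw [Equiv.symm_apply_eq]
      rfl
    simp only [Equiv.trans_apply, h5, Equiv.sumCongr_apply, Sum.map_inr, Equiv.sumCompl_apply_inr, hx, false_iff]
    exact (e2 ⟨x, hx⟩).2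

/-- pairs -/
def pairEquiv (κ' β' : Type*) :
    ((κ' × Fin 2) × ZMod 9) ⊕ (β' × Fin 2) ≃ ((κ' × ZMod 9) ⊕ β') × Fin 2 where
  toFun
    | Sum.inl ((x, ε), j) => (Sum.inl (x, j), ε)
    | Sum.inr (y, ε) => (Sum.inr y, ε)
  invFun
    | (Sum.inl (x, j), ε) => Sum.inl ((x, ε), j)
    | (Sum.inr y, ε) => Sum.inr (y, ε)
  left_inv := by rintro (⟨⟨x, ε⟩, j⟩ | ⟨y, ε⟩) <;> rfl
  right_inv := by rintro ⟨⟨x, j⟩ | y, ε⟩ <;> rfl

theorem arrange {ι : Type*} [Fintype ι] [DecidableEq ι] (P : ι → Prop) [DecidablePred P] {κ' β' : Type*}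
    [Fintype κ'] [DecidableEq κ'] [Fintype β'] [DecidableEq β'] (x₀ : κ')
    (hcard : Fintype.card ι = 18 * Fintype.card κ' + 2 * Fintype.card β') (he : Even (univ.filter P).card)
    (h4 : 4 ≤ (univ.filter P).card) (h4' : (univ.filter P).card + 4 ≤ Fintype.card ι) :
    ∃ e : (((κ' × Fin 2) × ZMod 9) ⊕ (β' × Fin 2)) ≃ ι, ∀ j : ZMod 9,
      ∑ x : κ' × Fin 2, (if P (e (Sum.inl (x, j))) then (2 : ZMod 4) else 0) = if j.val < 4 then 2 else 0 := by
  classical
  let Sp : Finset ((κ' × ZMod 9) ⊕ β') := ({0, 1, 2, 3} : Finset (ZMod 9)).image fun j => Sum.inl (x₀, j)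
  have hSp : Sp.card = 4 := by
    rw [card_image_of_injective]
    · decide
    · intro a b hab
      exact (Prod.mk.inj (Sum.inl.inj hab)).2
  have hpairs : Fintype.card ((κ' × ZMod 9) ⊕ β') = 9 * Fintype.card κ' + Fintype.card β' := by
    rw [Fintype.card_sum, Fintype.card_prod, ZMod.card, mul_comm]
  obtain ⟨m, hm⟩ := he
  obtain ⟨S, hS, hScard⟩ := Finset.exists_subset_card_eq (s := Spᶜ) (n := m - 2) (by
    rw [card_compl, hSp, hpairs]
    omega)
  have hdisj : Disjoint S Sp := by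
    rw [Finset.disjoint_left]
    intro a ha hb
    exact (mem_compl.1 (hS ha)) hb
  let Q : ((κ' × ZMod 9) ⊕ β') × Fin 2 → Prop := fun p => p.1 ∈ S ∨ (p.1 ∈ Sp ∧ p.2 = 0)
  have hQ : (univ.filter Q).card = (univ.filter P).card := by
    have h1 : univ.filter Q = S ×ˢ (univ : Finset (Fin 2)) ∪ Sp ×ˢ ({0} : Finset (Fin 2)) := by
      ext ⟨p, ε⟩
      simp only [Q, mem_filter, mem_univ, true_and, mem_union, mem_product, mem_singleton, and_true]
    rw [h1, card_union_of_disjoint, card_product, card_product, hScard, hSp, card_univ, Fintype.card_fin, card_singleton,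
      hm]
    · omega
    · rw [Finset.disjoint_left]
      rintro ⟨p, ε⟩ h2 h3
      exact Finset.disjoint_left.1 hdisj (mem_product.1 h2).1 (mem_product.1 h3).1
  obtain ⟨e, he⟩ := exists_match Q P (by
    rw [Fintype.card_prod, hpairs, Fintype.card_fin, hcard]
    ring) hQ
  refine ⟨(pairEquiv κ' β').trans e, ?_⟩
  intro j
  rw [Fintype.sum_prod_type]
  have h1 : ∀ x : κ', ∑ ε : Fin 2, (if P (((pairEquiv κ' β').trans e) (Sum.inl ((x, ε), j))) then (2 : ZMod 4) else 0) =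
      if x = x₀ then (if j.val < 4 then 2 else 0) else 0 := by
    intro x
    have h2 : ∀ ε : Fin 2, P (((pairEquiv κ' β').trans e) (Sum.inl ((x, ε), j))) ↔
        (Sum.inl (x, j) ∈ S ∨ (Sum.inl (x, j) ∈ Sp ∧ ε = 0)) := by
      intro ε
      exact (he (Sum.inl (x, j), ε)).symm
    simp only [h2, Fin.sum_univ_two]
    have h3 : (Sum.inl (x, j) ∈ Sp) ↔ (x = x₀ ∧ j.val < 4) := by
      have h4 : ∀ j : ZMod 9, j ∈ ({0, 1, 2, 3} : Finset (ZMod 9)) ↔ j.val < 4 := by decide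
      constructor
      · intro h
        obtain ⟨l, hl, hl2⟩ := mem_image.1 h
        have h5 := Sum.inl.inj hl2
        rw [Prod.mk.injEq] at h5
        exact ⟨h5.1.symm, by rw [← h5.2]; exact (h4 l).1 hl⟩
      · rintro ⟨rfl, h⟩
        exact mem_image.2 ⟨j, (h4 j).2 h, rfl⟩
    by_cases hS' : Sum.inl (x, j) ∈ S
    · have h5 : ¬ (x = x₀ ∧ j.val < 4) := by
        rw [← h3]
        exact Finset.disjoint_left.1 hdisj hS'
      simp only [hS', true_or, if_true]
      have h6 : (if x = x₀ then (if j.val < 4 then (2 : ZMod 4) else 0) else 0) = 0 := by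
        by_cases h7 : x = x₀
        · rw [if_pos h7, if_neg (fun h => h5 ⟨h7, h⟩)]
        · rw [if_neg h7]
      rw [h6]
      decide
    · simp only [hS', false_or, h3, and_true]
      by_cases h7 : x = x₀
      · by_cases h8 : j.val < 4
        · simp [h7, h8]
        · simp [h7, h8]
      · simp [h7]
  simp only [h1]
  simp

end Arrange

section Weights

variable {F : Type*} [Field F] [CharP F 3] {ψ : AddChar (ZMod 4) F}
variable {ι : Type*} [Fintype ι] [DecidableEq ι] {V : Type*} [AddCommGroup V] [Module F V]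

/-- the number of odd coordinates -/
def oc (μ : ι → ZMod 4) : ℕ := (univ.filter fun i => 2 * μ i = 2).card

theorem even_oc {μ : ι → ZMod 4} (h : ∑ i, μ i = 0) : Even (oc μ) := by
  have h1 : ∑ i, 2 * μ i = 0 := by rw [← mul_sum, h, mul_zero]
  have h2 : ∀ x : ZMod 4, 2 * x = if 2 * x = 2 then 2 else 0 := by decide
  have h3 : ∑ i, (if 2 * μ i = 2 then (2 : ZMod 4) else 0) = 0 :=
    (sum_congr rfl fun i _ => (h2 _).symm).trans h1
  rw [← sum_filter, sum_const, nsmul_eq_mul] at h3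
  change ((oc μ : ℕ) : ZMod 4) * 2 = 0 at h3
  have h4 : (((oc μ) * 2 : ℕ) : ZMod 4) = 0 := by
    push_cast
    exact h3
  rw [ZMod.natCast_eq_zero_iff] at h4
  rw [even_iff_two_dvd]
  omega

theorem oc_add_one (μ : ι → ZMod 4) : oc (fun i => μ i + 1) + oc μ = Fintype.card ι := by
  have h1 : ∀ x : ZMod 4, 2 * (x + 1) = 2 ↔ ¬ (2 * x = 2) := by decide
  have h2 := Finset.card_filter_add_card_filter_not (s := (univ : Finset ι)) (fun i => 2 * μ i = 2)
  rw [card_univ] at h2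
  rw [oc, oc, ← h2, add_comm]
  simp only [h1]

/-- **two odd coordinates** -/
theorem two_odd (hψ : Function.Injective ψ) {ρ : G ι F →* Module.End F V} (hn : 12 ≤ Fintype.card ι)
    (hn4 : 4 ∣ Fintype.card ι) (hsum : ∀ μ, IsWt ψ ρ μ → ∑ i, μ i = 0)
    (hexp : ∀ μ, IsWt ψ ρ μ → ¬ (4 ≤ oc μ ∧ oc μ + 4 ≤ Fintype.card ι))
    {μ : ι → ZMod 4} (hμ : IsWt ψ ρ μ) {i j : ι} (hij : i ≠ j) (hi : 2 * μ i = 2) (hj : 2 * μ j = 2)
    (hrest : ∀ k, k ≠ i → k ≠ j → 2 * μ k = 0) :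
    ∃ c, (∀ k, k ≠ i → k ≠ j → μ k = c) ∧ ((μ i = c + 1 ∧ μ j = c + 3) ∨ (μ i = c + 3 ∧ μ j = c + 1)) := by
  have hev : ∀ x : ZMod 4, 2 * x = 0 → x = 0 ∨ x = 2 := by decide
  -- the rest is constant
  have hno : ∀ k l, k ≠ i → k ≠ j → l ≠ i → l ≠ j → μ k = μ l + 2 → False := by
    intro k l hki hkj hli hlj hkl
    have hkl' : k ≠ l := by
      rintro rfl
      have : ∀ y : ZMod 4, y ≠ y + 2 := by decide
      exact this _ hkl
    obtain ⟨ν, hν, h1, h2, h3⟩ := move hψ hμ hkl' (by omega) hkl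
    apply hexp ν hν
    have h4 : (univ.filter fun m => 2 * ν m = 2) = {i, j, k, l} := by
      ext m
      simp only [mem_filter, mem_univ, true_and, mem_insert, mem_singleton]
      have hodd : ∀ x y : ZMod 4, 2 * x = 0 → (y = x + 1 ∨ y = x + 3) → 2 * y = 2 := by decide
      have h5 : 2 * ν k = 2 := hodd (μ k) (ν k) (hrest k hki hkj) h3
      constructor
      · intro hm
        by_contra hcon
        push Not at hcon
        obtain ⟨c1, c2, c3, c4⟩ := hcon
        rw [h1 m c3 c4, hrest m c1 c2] at hm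
        exact absurd hm (by decide)
      · rintro (rfl | rfl | rfl | rfl)
        · rw [h1 _ hki.symm hli.symm]; exact hi
        · rw [h1 _ hkj.symm hlj.symm]; exact hj
        · exact h5
        · rw [← h2]; exact h5
    have h5 : oc ν = 4 := by
      rw [oc, h4, card_insert_of_notMem, card_insert_of_notMem, card_insert_of_notMem, card_singleton]
      · simpa using hkl'
      · simp only [mem_insert, mem_singleton, not_or]; exact ⟨hkj.symm, hlj.symm⟩
      · simp only [mem_insert, mem_singleton, not_or]; exact ⟨hij, hki.symm, hli.symm⟩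
    rw [h5]
    omega
  obtain ⟨k₀, hk₀⟩ : ∃ k₀, k₀ ∉ ({i, j} : Finset ι) := by
    by_contra hcon
    push Not at hcon
    have h1 : (univ : Finset ι) ⊆ {i, j} := fun k _ => hcon k
    have h2 := card_le_card h1
    rw [card_univ] at h2
    have := Finset.card_le_two (a := i) (b := j)
    omega
  simp only [mem_insert, mem_singleton, not_or] at hk₀
  have hconst : ∀ k, k ≠ i → k ≠ j → μ k = μ k₀ := by
    intro k hki hkj
    have h1 := hev _ (hrest k hki hkj)
    have h2 := hev _ (hrest k₀ hk₀.1 hk₀.2)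
    rcases h1 with h1 | h1 <;> rcases h2 with h2 | h2
    · rw [h1, h2]
    · exact (hno k₀ k hk₀.1 hk₀.2 hki hkj (by rw [h1, h2]; decide)).elim
    · exact (hno k k₀ hki hkj hk₀.1 hk₀.2 (by rw [h1, h2]; decide)).elim
    · rw [h1, h2]
  refine ⟨μ k₀, hconst, ?_⟩
  -- the sum
  have h1 := hsum μ hμ
  rw [← Finset.add_sum_erase univ μ (mem_univ i), ← Finset.add_sum_erase (univ.erase i) μ
    (mem_erase.2 ⟨hij.symm, mem_univ j⟩), sum_congr rfl (g := fun _ => μ k₀) (fun k hk => by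
      rw [mem_erase, mem_erase] at hk
      exact hconst k hk.2.1 hk.1), sum_const, card_erase_of_mem (mem_erase.2 ⟨hij.symm, mem_univ j⟩),
    card_erase_of_mem (mem_univ i), card_univ, nsmul_eq_mul] at h1
  have h2 : ((Fintype.card ι - 1 - 1 : ℕ) : ZMod 4) = 2 := by
    obtain ⟨m, hm⟩ := hn4
    have h3 : Fintype.card ι - 1 - 1 = 4 * (m - 1) + 2 := by omega
    rw [h3]
    push_cast
    have : ∀ x : ZMod 4, 4 * x + 2 = 2 := by decide
    exact this _
  rw [h2] at h1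
  have h3 : ∀ x y c : ZMod 4, 2 * x = 2 → 2 * y = 2 → 2 * c = 0 → x + (y + 2 * c) = 0 →
      ((x = c + 1 ∧ y = c + 3) ∨ (x = c + 3 ∧ y = c + 1)) := by decide
  exact h3 _ _ _ hi hj (hrest k₀ hk₀.1 hk₀.2) h1

/-- at most two odd coordinates -/
theorem le_two_odd (hψ : Function.Injective ψ) {ρ : G ι F →* Module.End F V} (hn : 12 ≤ Fintype.card ι)
    (hn4 : 4 ∣ Fintype.card ι) (hsum : ∀ μ, IsWt ψ ρ μ → ∑ i, μ i = 0)
    (hexp : ∀ μ, IsWt ψ ρ μ → ¬ (4 ≤ oc μ ∧ oc μ + 4 ≤ Fintype.card ι))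
    {μ : ι → ZMod 4} (hμ : IsWt ψ ρ μ) (h : oc μ ≤ 2) : Cst μ ∨ Adj μ := by
  have hev := even_oc (hsum μ hμ)
  have h01 : ∀ x : ZMod 4, ¬ (2 * x = 2) → 2 * x = 0 := by decide
  rcases Nat.eq_zero_or_pos (oc μ) with h0 | h0
  · left
    rw [oc, card_eq_zero, filter_eq_empty_iff] at h0
    have h0' : ∀ k, 2 * μ k = 0 := fun k => h01 _ (h0 (mem_univ k))
    have hev : ∀ x : ZMod 4, 2 * x = 0 → x = 0 ∨ x = 2 := by decide
    have hno : ∀ k l, μ k = μ l + 2 → False := by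
      intro k l hkl
      have hkl' : k ≠ l := by
        rintro rfl
        have : ∀ y : ZMod 4, y ≠ y + 2 := by decide
        exact this _ hkl
      obtain ⟨ν, hν, h1, h2, h3⟩ := move hψ hμ hkl' (by omega) hkl
      have hodd : ∀ x y : ZMod 4, 2 * x = 0 → (y = x + 1 ∨ y = x + 3) → 2 * y = 2 := by decide
      have h5 : 2 * ν k = 2 := hodd (μ k) (ν k) (h0' k) h3
      obtain ⟨c, -, h6⟩ := two_odd hψ hn hn4 hsum hexp hν hkl' h5 (by rw [← h2]; exact h5)
        (fun m hm1 hm2 => by rw [h1 m hm1 hm2]; exact h0' m)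
      rw [h2] at h6
      have : ∀ x c : ZMod 4, ¬ ((x = c + 1 ∧ x = c + 3) ∨ (x = c + 3 ∧ x = c + 1)) := by decide
      exact this _ _ h6
    have hne : Nonempty ι := Fintype.card_pos_iff.1 (by omega)
    obtain ⟨k₀⟩ := hne
    refine ⟨μ k₀, fun k => ?_⟩
    rcases hev _ (h0' k) with h1 | h1 <;> rcases hev _ (h0' k₀) with h2 | h2
    · rw [h1, h2]
    · exact (hno k₀ k (by rw [h1, h2]; decide)).elim
    · exact (hno k k₀ (by rw [h1, h2]; decide)).elim
    · rw [h1, h2]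
  · right
    have h2 : oc μ = 2 := by
      obtain ⟨m, hm⟩ := hev
      omega
    rw [oc, card_eq_two] at h2
    obtain ⟨i, j, hij, h3⟩ := h2
    have hmem : ∀ k, 2 * μ k = 2 ↔ (k = i ∨ k = j) := by
      intro k
      have := Finset.ext_iff.1 h3 k
      simpa using this
    obtain ⟨c, h4, h5⟩ := two_odd hψ hn hn4 hsum hexp hμ hij ((hmem i).2 (Or.inl rfl)) ((hmem j).2 (Or.inr rfl))
      (fun k hk1 hk2 => h01 _ (fun h => ((hmem k).1 h).elim hk1 hk2))
    rcases h5 with ⟨h5, h6⟩ | ⟨h5, h6⟩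
    · exact ⟨c, i, j, hij, h5, h6, h4⟩
    · exact ⟨c, j, i, hij.symm, h6, h5, fun k hk1 hk2 => h4 k hk2 hk1⟩

/-- **All weights are constant or of the form `c + e_i - e_j`.** -/
theorem cst_or_adj (hψ : Function.Injective ψ) {ρ : G ι F →* Module.End F V} (hn : 12 ≤ Fintype.card ι)
    (hn4 : 4 ∣ Fintype.card ι) (hsum : ∀ μ, IsWt ψ ρ μ → ∑ i, μ i = 0)
    (hexp : ∀ μ, IsWt ψ ρ μ → ¬ (4 ≤ oc μ ∧ oc μ + 4 ≤ Fintype.card ι))
    (μ : ι → ZMod 4) (hμ : IsWt ψ ρ μ) : Cst μ ∨ Adj μ := by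
  have hev := even_oc (hsum μ hμ)
  have h1 := hexp μ hμ
  have h2 : Even (Fintype.card ι) := even_iff_two_dvd.2 ((by norm_num : 2 ∣ 4).trans hn4)
  by_cases h3 : oc μ ≤ 2
  · exact le_two_odd hψ hn hn4 hsum hexp hμ h3
  · have h4 := oc_add_one μ
    have h5 : oc (fun i => μ i + 1) ≤ 2 := by
      obtain ⟨a, ha⟩ := hev
      obtain ⟨b, hb⟩ := h2
      omega
    rcases le_two_odd hψ hn hn4 hsum hexp (hμ.const 1) h5 with ⟨c, hc⟩ | ⟨c, i, j, hij, h6, h7, h8⟩
    · left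
      exact ⟨c - 1, fun i => by rw [← hc i]; ring⟩
    · right
      refine ⟨c - 1, i, j, hij, by linear_combination h6, by linear_combination h7, fun k hk1 hk2 => ?_⟩
      linear_combination h8 k hk1 hk2

/-- the element of `G κ F` on another index type -/
theorem exists_unip' [Fintype F] (hF : Fintype.card F = 9) (i : ℕ) {κ : Type*} [Fintype κ] [DecidableEq κ]
    (hκ : Fintype.card κ = 3 ^ i + 1) :
    ∃ v z : G κ F, mt z = -1 ∧ v ^ 3 ^ (i + 1) = 1 ∧
      ∀ K : Subgroup (G κ F), K.Normal → v ^ 3 ^ i ∈ K → z ∈ K := by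
  obtain ⟨v, hv, -, hz⟩ := Cfsg.Agent.H892.SUCov.exists_unip (F := F) hF i
  let ε : Fin (3 ^ i + 1) ≃ κ := Fintype.equivOfCardEq (by rw [Fintype.card_fin, hκ])
  have hev : Even (Fintype.card κ) := by
    rw [hκ]
    have h3 : Odd (3 ^ i) := Odd.pow (by decide)
    exact h3.add_one
  let z : G κ F := mk (-1) (by
    have h1 : ct (-1 : Matrix κ κ F) = -1 := by
      ext a b
      rw [ct_apply, Matrix.neg_apply, Matrix.neg_apply, Matrix.one_apply, Matrix.one_apply]
      by_cases h : b = a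
      · subst h; simp; norm_num
      · rw [if_neg h, if_neg (Ne.symm h)]; simp
    rw [h1]
    simp) (by rw [Matrix.det_neg, Matrix.det_one, mul_one, hev.neg_one_pow])
  refine ⟨reix ε v, z, rfl, ?_, ?_⟩
  · rw [← map_pow, hv, map_one]
  · intro K hK hvK
    have h1 := hz (K.comap (reix ε).toMonoidHom) (hK.comap _) (by
      show reix ε (v ^ 3 ^ i) ∈ K
      rw [map_pow]
      exact hvK) ((reix ε).symm z) (by
      show Matrix.reindex ε.symm ε.symm (-1 : Matrix κ κ F) = -1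
      ext a b
      simp [Matrix.one_apply])
    have h2 : reix ε ((reix ε).symm z) ∈ K := h1
    rwa [MulEquiv.apply_symm_apply] at h2

/-- **Case A.** -/
theorem caseA [Fintype F] (hF : Fintype.card F = 9) (hψ : Function.Injective ψ) {i : ℕ}
    (hn : 3 ^ (i + 2) + 9 ≤ Fintype.card ι) (hn4 : 4 ∣ Fintype.card ι) [FiniteDimensional F V]
    {ρ : G ι F →* Module.End F V} (hsum : ∀ μ, IsWt ψ ρ μ → ∑ i, μ i = 0)
    (hA : ∀ u : G ι F, u ^ 3 ^ (i + 3) = 1 → ∑ l ∈ range (3 ^ (i + 3)), ρ (u ^ l) = 0)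
    (μ : ι → ZMod 4) (hμ : IsWt ψ ρ μ) : Cst μ ∨ Adj μ := by
  have h3pos : 1 ≤ 3 ^ i := Nat.one_le_pow _ _ (by norm_num)
  have h3odd : Odd (3 ^ i) := Odd.pow (by decide)
  have h9 : 3 ^ (i + 2) = 9 * 3 ^ i := by ring
  rw [h9] at hn
  refine cst_or_adj hψ (by omega) hn4 hsum ?_ μ hμ
  rintro ν hν ⟨h4, h4'⟩
  obtain ⟨m, hm⟩ := h3odd
  obtain ⟨t, ht⟩ := hn4
  have hn' : Fintype.card ι = 18 * (m + 1) + 2 * (2 * t - 9 * (m + 1)) := by omega
  obtain ⟨e, he⟩ := arrange (fun i => 2 * ν i = 2) (κ' := Fin (m + 1)) (β' := Fin (2 * t - 9 * (m + 1))) 0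
    (by rw [Fintype.card_fin, Fintype.card_fin]; exact hn') (even_oc (hsum ν hν)) h4 h4'
  have hκ : Fintype.card (Fin (m + 1) × Fin 2) = 3 ^ i + 1 := by
    rw [Fintype.card_prod, Fintype.card_fin, Fintype.card_fin]
    omega
  obtain ⟨v, z, hz, hv, hK⟩ := exists_unip' (F := F) hF i hκ
  have hν' : IsWt ψ (tr e.symm ρ) (ν ∘ e) := by
    rw [isWt_tr]
    have : (ν ∘ e) ∘ e.symm = ν := by
      funext k
      simp
    rwa [this]
  obtain ⟨u, hu, hne⟩ := blocks_sum hψ (by rw [hκ, hm]; exact ⟨m + 1, by ring⟩) hz hv hK hν' (by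
    intro j
    rw [← he j]
    refine sum_congr rfl fun x _ => ?_
    have : ∀ y : ZMod 4, 2 * y = if 2 * y = 2 then 2 else 0 := by decide
    exact this _)
  apply hne
  have h1 : ∀ l, tr e.symm ρ (u ^ l) = ρ ((reix e.symm).symm u ^ l) := by
    intro l
    show ρ ((reix e.symm).symm (u ^ l)) = _
    rw [map_pow]
  simp only [h1]
  exact hA _ (by rw [← map_pow, hu, map_one])

end Weights

end Cfsg.Agent.H356.U3
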