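import Cfsg.Agent.H356.U3.Rep
import Cfsg.Agent.S0283

/-!
# Normal subgroups containing the diagonal elements (helper356, S3464)
-/

set_option autoImplicit false
set_option linter.unusedSectionVars false

namespace Cfsg.Agent.H356.U3

open Matrix Finset

section

variable {F : Type*} [Field F] [CharP F 3] {ψ : AddChar (ZMod 4) F}

theorem exists_psi_eq (hψ : Function.Injective ψ) {c : F} (hc : c ^ 4 = 1) : ∃ t : ZMod 4, c = ψ t := by
  have hI := I_sq hψ
  have h1 : (c - 1) * (c + 1) * ((c - ψ 1) * (c + ψ 1)) = 0 := by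
    linear_combination hc - (c ^ 2 - 1) * hI
  rcases mul_eq_zero.1 h1 with h | h
  · rcases mul_eq_zero.1 h with h | h
    · exact ⟨0, by rw [AddChar.map_zero_eq_one]; exact sub_eq_zero.1 h⟩
    · exact ⟨2, by rw [psi_two hψ]; exact eq_neg_of_add_eq_zero_left h⟩
  · rcases mul_eq_zero.1 h with h | h
    · exact ⟨1, sub_eq_zero.1 h⟩
    · refine ⟨3, ?_⟩
      have : (3 : ZMod 4) = 1 + 2 := by decide
      rw [this, AddChar.map_add_eq_mul, psi_two hψ]
      linear_combination h

theorem trivial_of_d_fin [Fintype F] (hF : Fintype.card F = 9) (hψ : Function.Injective ψ) {m : ℕ} (hm : 3 ≤ m)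
    (K : Subgroup (G (Fin m) F)) (hK : K.Normal) (h : ∀ a : A (Fin m), d ψ a ∈ K) : K = ⊤ := by
  have hs : IsSimpleGroup (Cfsg.PSU m F 3) := S0283.result (by rw [hF]; norm_num) m hm (by omega)
  have hN : (K.map (cls m)).Normal := hK.map _ (cls_surjective m)
  rcases hN.eq_bot_or_eq_top with h0 | h0
  · exfalso
    have h1 : cls m (d ψ (dif (⟨0, by omega⟩ : Fin m) ⟨1, by omega⟩)) ∈ K.map (cls m) := Subgroup.mem_map_of_mem _ (h _)
    rw [h0, Subgroup.mem_bot] at h1
    obtain ⟨c, hc⟩ := (cls_eq_one_iff hF hm _).1 h1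
    rw [mt_d] at hc
    have e0 := congrFun (congrFun hc ⟨0, by omega⟩) ⟨0, by omega⟩
    have e2 := congrFun (congrFun hc ⟨2, by omega⟩) ⟨2, by omega⟩
    rw [Matrix.diagonal_apply_eq, Matrix.smul_apply, Matrix.one_apply_eq, smul_eq_mul, mul_one] at e0 e2
    rw [← e2] at e0
    have h2 := hψ e0
    simp [dif] at h2
    exact absurd h2 (by decide)
  · rw [eq_top_iff]
    intro g _
    have h1 : cls m g ∈ K.map (cls m) := by rw [h0]; trivial
    obtain ⟨k, hk, hkg⟩ := h1
    have h2 : cls m (k⁻¹ * g) = 1 := by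
      rw [map_mul, map_inv, hkg, inv_mul_cancel]
    obtain ⟨c, hc⟩ := (cls_eq_one_iff hF hm _).1 h2
    have hne : Nonempty (Fin m) := ⟨⟨0, by omega⟩⟩
    have h3 : c ^ 4 = 1 := by
      have h4 := mt_ct (k⁻¹ * g)
      rw [hc] at h4
      have h5 := congrFun (congrFun h4 ⟨0, by omega⟩) ⟨0, by omega⟩
      rw [Matrix.mul_apply, sum_eq_single (⟨0, by omega⟩ : Fin m)] at h5
      · rw [ct_apply] at h5
        simp only [Matrix.smul_apply, Matrix.one_apply_eq, smul_eq_mul, mul_one] at h5
        linear_combination h5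
      · intro j _ hj
        rw [Matrix.smul_apply, Matrix.one_apply_ne hj.symm, smul_zero, zero_mul]
      · intro h
        exact absurd (mem_univ _) h
    obtain ⟨t, rfl⟩ := exists_psi_eq hψ h3
    have h4 : ∑ _i : Fin m, t = 0 := by
      have h5 := mt_det (k⁻¹ * g)
      rw [hc, Matrix.det_smul, Matrix.det_one, mul_one, Fintype.card_fin] at h5
      apply hψ
      rw [psi_sum, AddChar.map_zero_eq_one, prod_const, card_univ, Fintype.card_fin]
      exact h5
    have h5 : k⁻¹ * g = d ψ ⟨fun _ => t, h4⟩ := by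
      apply mt_inj
      rw [mt_d, hc]
      ext i j
      by_cases hij : i = j
      · subst hij; simp
      · simp [hij]
    have h6 : g = k * (k⁻¹ * g) := by group
    rw [h6, h5]
    exact K.mul_mem hk (h _)

/-- **T2.** -/
theorem trivial_of_d [Fintype F] (hF : Fintype.card F = 9) (hψ : Function.Injective ψ) {ι : Type*} [Fintype ι]
    [DecidableEq ι] (hι : 3 ≤ Fintype.card ι) (K : Subgroup (G ι F)) (hK : K.Normal) (h : ∀ a : A ι, d ψ a ∈ K) :
    K = ⊤ := by
  let e : Fin (Fintype.card ι) ≃ ι := (Fintype.equivFin ι).symm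
  have h1 := trivial_of_d_fin hF hψ hι (K.comap (reix e).toMonoidHom) (hK.comap _) (fun a => by
    show reix e (d ψ a) ∈ K
    rw [reix_d]
    exact h _)
  rw [eq_top_iff]
  intro g _
  have h2 : (reix e).symm g ∈ K.comap (reix e).toMonoidHom := by rw [h1]; trivial
  have h3 : reix e ((reix e).symm g) ∈ K := h2
  rwa [MulEquiv.apply_symm_apply] at h3

end

end Cfsg.Agent.H356.U3
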