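import Cfsg.Agent.H356.U3.Nil
import Cfsg.Agent.ClassicalGeometry.PSUAutBasic

/-!
# From modules of `PSU n F 3` over the prime field to representations of `G (Fin n) F` over `F` (helper356, S3464)
-/

set_option autoImplicit false
set_option linter.unusedSectionVars false

namespace Cfsg.Agent.H356.U3

open Matrix Finset Cfsg.Agent.ClassicalGeometry.PSUAutBasic

universe u v

section

variable {F : Type u} [Field F] [Fintype F] [CharP F 3]

/-- the class in `PSU n F 3` -/
noncomputable def cls (n : ℕ) : G (Fin n) F →* Cfsg.PSU n F 3 :=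
  (QuotientGroup.mk' _).comp (MulEquiv.subgroupCongr (SU_eq (F := F) n).symm).toMonoidHom

theorem cls_surjective (n : ℕ) : Function.Surjective (cls (F := F) n) := by
  intro x
  obtain ⟨y, rfl⟩ := QuotientGroup.mk'_surjective _ x
  exact ⟨(MulEquiv.subgroupCongr (SU_eq (F := F) n).symm).symm y, by
    show QuotientGroup.mk' _ (MulEquiv.subgroupCongr _ (MulEquiv.symm _ y)) = _
    rw [MulEquiv.apply_symm_apply]⟩

theorem cls_eq_one_iff (hF : Fintype.card F = 9) {n : ℕ} (hn : 3 ≤ n) (g : G (Fin n) F) :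
    cls n g = 1 ↔ ∃ c : F, mt g = c • (1 : Matrix (Fin n) (Fin n) F) := by
  have h1 : cls n g = 1 ↔ (MulEquiv.subgroupCongr (SU_eq (F := F) n).symm) g ∈ Subgroup.center (Cfsg.SU n F 3) :=
    QuotientGroup.eq_one_iff _
  rw [h1]
  constructor
  · intro h
    obtain ⟨c, -, -, hc⟩ := exists_scalar_of_mem_center (by rw [hF]; norm_num) hn h
    refine ⟨c, ?_⟩
    have h2 : ∀ v : Fin n → F, mt g *ᵥ v = c • v := fun v => hc v
    ext i j
    have h3 := congrFun (h2 (Pi.single j 1)) i
    rw [Matrix.mulVec_single_one, Matrix.col_apply] at h3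
    rw [h3, Pi.smul_apply, Matrix.smul_apply, Matrix.one_apply]
    simp [Pi.single_apply]
  · rintro ⟨c, hc⟩
    rw [Subgroup.mem_center_iff]
    intro h
    obtain ⟨k, rfl⟩ := (MulEquiv.subgroupCongr (SU_eq (F := F) n).symm).surjective h
    rw [← map_mul, ← map_mul]
    congr 1
    apply mt_inj
    rw [mt_mul, mt_mul, hc]
    simp

theorem orderOf_cls (hF : Fintype.card F = 9) {n : ℕ} (hn : 3 ≤ n) {g : G (Fin n) F}
    (h : ∀ k : ℕ, (∃ c : F, mt (g ^ k) = c • (1 : Matrix (Fin n) (Fin n) F)) → g ^ k = 1) :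
    orderOf (cls n g) = orderOf g := by
  apply Nat.dvd_antisymm (orderOf_map_dvd _ g)
  apply orderOf_dvd_of_pow_eq_one
  apply h
  rw [← cls_eq_one_iff hF hn, map_pow, pow_orderOf_eq_one]

/-- **The wrapper.** -/
theorem exists_rep (hF : Fintype.card F = 9) {n : ℕ} (hn : 12 ≤ n)
    {V : Type v} [AddCommGroup V] [Finite V] [Nontrivial V] (hV : ∀ v : V, 3 • v = 0)
    (φ : Cfsg.PSU n F 3 →* AddMonoid.End V)
    (hno : ∀ (x : Cfsg.PSU n F 3) (v : V), (∑ i ∈ range (orderOf x), φ (x ^ i) v = 0) ∨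
      ∃ y : Cfsg.PSU n F 3, orderOf y = 3 * orderOf x) :
    ∃ (W : Type (max u v)) (_ : AddCommGroup W) (_ : Module F W) (_ : Module.Finite F W) (_ : Nontrivial W)
      (ρ : G (Fin n) F →* Module.End F W),
      (∀ g : G (Fin n) F, (∃ c : F, mt g = c • (1 : Matrix (Fin n) (Fin n) F)) → ρ g = 1) ∧
      ((∀ g, ρ g = 1) → ∀ x v, φ x v = v) ∧
      (∀ M, (¬ ∃ y : Cfsg.PSU n F 3, orderOf y = 3 * M) → ∀ g : G (Fin n) F, orderOf g = M →
        (∀ k : ℕ, (∃ c : F, mt (g ^ k) = c • (1 : Matrix (Fin n) (Fin n) F)) → g ^ k = 1) →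
          ∑ i ∈ range M, ρ (g ^ i) = 0) := by
  let _ : Module (ZMod 3) V := AddCommGroup.zmodModule hV
  let _ : Algebra (ZMod 3) F := ZMod.algebra F 3
  have hfinV : Module.Finite (ZMod 3) V := Module.Finite.of_finite
  let φ' : Cfsg.PSU n F 3 →* Module.End (ZMod 3) V :=
    { toFun := fun x => (φ x).toZModLinearMap 3
      map_one' := by
        ext v
        show φ 1 v = v
        rw [map_one]
        rfl
      map_mul' := fun x y => by
        ext v
        show φ (x * y) v = φ x (φ y v)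
        rw [map_mul]
        rfl }
  have hφ' : ∀ x v, φ' x v = φ x v := fun x v => rfl
  let ρ₀ : Cfsg.PSU n F 3 →* Module.End F (TensorProduct (ZMod 3) F V) :=
    { toFun := fun x => (φ' x).baseChange F
      map_one' := by
        rw [map_one]
        exact LinearMap.baseChange_id
      map_mul' := fun x y => by
        rw [map_mul]
        exact LinearMap.baseChange_comp _ _ }
  have hρ₀ : ∀ x, ρ₀ x = (φ' x).baseChange F := fun x => rfl
  have hinj : Function.Injective (TensorProduct.mk (ZMod 3) F V 1) :=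
    Module.FaithfullyFlat.tensorProduct_mk_injective V
  have hnt : Nontrivial (TensorProduct (ZMod 3) F V) := hinj.nontrivial
  refine ⟨TensorProduct (ZMod 3) F V, inferInstance, inferInstance, inferInstance, hnt, ρ₀.comp (cls n), ?_, ?_, ?_⟩
  · intro g hg
    show ρ₀ (cls n g) = 1
    rw [(cls_eq_one_iff hF (by omega) g).2 hg, map_one]
  · intro h x v
    obtain ⟨g, rfl⟩ := cls_surjective n x
    have h1 : ρ₀ (cls n g) (1 ⊗ₜ v) = 1 ⊗ₜ v := by
      have h2 : ρ₀ (cls n g) = 1 := h g
      rw [h2]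
      rfl
    rw [hρ₀, LinearMap.baseChange_tmul] at h1
    exact hinj h1
  · intro M hM g hg hk
    have ho : orderOf (cls n g) = M := by rw [orderOf_cls hF (by omega) hk, hg]
    have h1 : ∑ i ∈ range M, φ' (cls n g ^ i) = 0 := by
      ext v
      rw [LinearMap.sum_apply]
      rcases hno (cls n g) v with h | h
      · rw [ho] at h
        exact h
      · rw [ho] at h
        exact absurd h hM
    have h2 : ∀ i, (ρ₀.comp (cls n)) (g ^ i) = (φ' (cls n g ^ i)).baseChange F := by
      intro i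
      show ρ₀ (cls n (g ^ i)) = _
      rw [map_pow, hρ₀]
    have h3 := map_sum (LinearMap.baseChangeHom (ZMod 3) F V V) (fun i => φ' (cls n g ^ i)) (range M)
    rw [h1, map_zero] at h3
    rw [sum_congr rfl fun i _ => h2 i]
    exact h3.symm

end

end Cfsg.Agent.H356.U3
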