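import Cfsg.Agent.H356.U3.CaseA
import Cfsg.Agent.H356.U3.Triv
import Cfsg.Agent.H356.U3.Order
import Cfsg.Agent.H376.LPsl
import Cfsg.Agent.H387.SuThree
import Cfsg.Agent.H762.SUThree.CaseB
import Cfsg.Agent.H762.SUThree.AdjFalse
import Cfsg.Agent.H892.SUCov.Cover
import Cfsg.Agent.H373.Recog

/-!
# The cover of `PSU n F 3` in characteristic 3 (helper356, S3464)
-/

set_option autoImplicit false
set_option linter.unusedSectionVars false

namespace Cfsg.Agent.H356.U3

open Matrix Finset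

section

variable {F : Type*} [Field F] [CharP F 3] {ψ : AddChar (ZMod 4) F}
variable {ι : Type*} [Fintype ι] [DecidableEq ι] {V : Type*} [AddCommGroup V] [Module F V]

/-- a scalar element has order dividing 4 -/
theorem scalar_pow_four [Nonempty ι] {g : G ι F} {c : F} (h : mt g = c • 1) : g ^ 4 = 1 := by
  have h1 := mt_ct g
  rw [h] at h1
  obtain ⟨i⟩ := ‹Nonempty ι›
  have h2 := congrFun (congrFun h1 i) i
  rw [Matrix.mul_apply, sum_eq_single i] at h2
  · rw [ct_apply] at h2
    simp only [Matrix.smul_apply, Matrix.one_apply_eq, smul_eq_mul, mul_one] at h2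
    apply mt_inj
    rw [mt_pow, h, smul_pow, one_pow, mt_one]
    have h3 : c ^ 4 = 1 := by linear_combination h2
    rw [h3, one_smul]
  · intro j _ hj
    rw [Matrix.smul_apply, Matrix.one_apply_ne hj.symm, smul_zero, zero_mul]
  · intro h
    exact absurd (mem_univ _) h

/-- an element with a fixed vector: scalar powers are trivial -/
theorem pow_eq_one_of_fixed {g : G ι F} (hg : ∃ v : ι → F, v ≠ 0 ∧ mt g *ᵥ v = v) (k : ℕ)
    (hc : ∃ c : F, mt (g ^ k) = c • 1) : g ^ k = 1 := by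
  obtain ⟨v, hv, hgv⟩ := hg
  obtain ⟨c, hc⟩ := hc
  have h1 : ∀ k : ℕ, mt (g ^ k) *ᵥ v = v := by
    intro k
    induction k with
    | zero => rw [pow_zero, mt_one, Matrix.one_mulVec]
    | succ k ih => rw [pow_succ, mt_mul, ← Matrix.mulVec_mulVec, hgv, ih]
  have h2 := h1 k
  rw [hc, Matrix.smul_mulVec, Matrix.one_mulVec] at h2
  have h3 : (c - 1) • v = 0 := by rw [sub_smul, one_smul, h2, sub_self]
  have h4 : c = 1 := sub_eq_zero.1 ((smul_eq_zero.1 h3).resolve_right hv)
  apply mt_inj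
  rw [hc, h4, one_smul, mt_one]

/-- a 3-element: scalar powers are trivial -/
theorem pow_eq_one_of_three [Nonempty ι] {g : G ι F} {a : ℕ} (hg : g ^ 3 ^ a = 1) (k : ℕ)
    (hc : ∃ c : F, mt (g ^ k) = c • 1) : g ^ k = 1 := by
  obtain ⟨c, hc⟩ := hc
  have h1 := scalar_pow_four hc
  have h2 : (g ^ k) ^ 3 ^ a = 1 := by rw [← pow_mul, mul_comm, pow_mul, hg, one_pow]
  have h3 : Nat.Coprime 4 (3 ^ a) := Nat.Coprime.pow_right a (by norm_num)
  exact (pow_eq_one_iff_of_coprime h3).1 ⟨h1, h2⟩ 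
where
  pow_eq_one_iff_of_coprime {x : G ι F} {a b : ℕ} (h : Nat.Coprime a b) : (x ^ a = 1 ∧ x ^ b = 1) ↔ x = 1 := by
    constructor
    · rintro ⟨h1, h2⟩
      have h3 := Nat.dvd_gcd (orderOf_dvd_of_pow_eq_one h1) (orderOf_dvd_of_pow_eq_one h2)
      rw [h.gcd_eq_one, Nat.dvd_one, orderOf_eq_one_iff] at h3
      exact h3
    · rintro rfl
      simp

/-- constant weights: the diagonal elements act trivially -/
theorem d_trivial (hψ : Function.Injective ψ) {ρ : G ι F →* Module.End F V} (h : ∀ μ, IsWt ψ ρ μ → Cst μ) (a : A ι) :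
    ρ (d ψ a) = 1 := by
  ext w
  rw [← sum_E hψ ρ w, map_sum]
  refine sum_congr rfl fun μ _ => ?_
  by_cases h0 : E ψ ρ μ w = 0
  · rw [h0, map_zero]
  · obtain ⟨c, hc⟩ := h μ ⟨_, E_mem ρ μ w, h0⟩
    rw [E_mem ρ μ w a]
    have h1 : pr μ a = 0 := by
      rw [pr]
      have h2 : ∑ i, a.1 i = 0 := a.2
      simp only [hc]
      rw [← mul_sum, h2, mul_zero]
    rw [h1, AddChar.map_zero_eq_one, one_smul]

theorem exists_psi [Fintype F] (hF : Fintype.card F = 9) : ∃ ψ : AddChar (ZMod 4) F, Function.Injective ψ := by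
  classical
  obtain ⟨g, hg⟩ := IsCyclic.exists_generator (α := Fˣ)
  have h1 : orderOf g = 8 := by
    rw [orderOf_eq_card_of_forall_mem_zpowers hg, Nat.card_eq_fintype_card, Fintype.card_units, hF]
  have h2 : orderOf (g ^ 2) = 4 := by
    rw [orderOf_pow, h1]
    norm_num
  set ζ : F := ((g ^ 2 : Fˣ) : F) with hζ
  have h3 : orderOf ζ = 4 := by rw [hζ, orderOf_units, h2]
  have hp : IsPrimitiveRoot ζ 4 := by
    rw [← h3]
    exact IsPrimitiveRoot.orderOf ζ
  refine ⟨AddChar.zmodChar 4 hp.pow_eq_one, ?_⟩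
  intro a b hab
  rw [AddChar.zmodChar_apply, AddChar.zmodChar_apply] at hab
  have h4 := hp.pow_inj (ZMod.val_lt a) (ZMod.val_lt b) hab
  exact ZMod.val_injective 4 h4

theorem order_nine {r m : ℕ} (_hm : 1 ≤ m) (h : orderOf ((3 : ℕ) : ZMod r) = 2 * m) : orderOf (9 : ZMod r) = m := by
  have h1 : (9 : ZMod r) = ((3 : ℕ) : ZMod r) ^ 2 := by
    push_cast
    norm_num
  rw [h1, orderOf_pow' _ (by norm_num), h]
  have : Nat.gcd (2 * m) 2 = 2 := Nat.gcd_eq_right (dvd_mul_right 2 m)
  rw [this]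
  omega

end

universe u v

/-- **Cover in characteristic 3.** -/
theorem cov_three {F : Type u} [Field F] [Fintype F] (hF : Fintype.card F = 9) {n : ℕ} (hn : 12 ≤ n) (h4 : 4 ∣ n)
    (h8 : ¬ 8 ∣ n) (hp : (n - 1).Prime) {V : Type v} [AddCommGroup V] [Finite V] [Nontrivial V]
    (hV : ∀ v : V, 3 • v = 0) (φ : Cfsg.PSU n F 3 →* AddMonoid.End V) :
    ∃ (x : Cfsg.PSU n F 3) (v : V), ∑ i ∈ range (orderOf x), φ (x ^ i) v ≠ 0 ∧
      ¬ ∃ y : Cfsg.PSU n F 3, orderOf y = 3 * orderOf x := by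
  classical
  have hch : CharP F 3 := Cfsg.Agent.H387.SuThree.charP_three hF
  by_contra hcon
  have hno : ∀ (x : Cfsg.PSU n F 3) (v : V), (∑ i ∈ range (orderOf x), φ (x ^ i) v = 0) ∨
      ∃ y : Cfsg.PSU n F 3, orderOf y = 3 * orderOf x := by
    intro x v
    by_contra h
    push Not at h
    exact hcon ⟨x, v, h.1, by push Not; exact h.2⟩
  obtain ⟨ψ, hψ⟩ := exists_psi (F := F) hF
  obtain ⟨W, _, _, _, _, ρ, hsc, htriv, hsum⟩ := exists_rep hF hn hV φ hno
  have hne : Nonempty (Fin n) := ⟨⟨0, by omega⟩⟩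
  have hcardι : Fintype.card (Fin n) = n := Fintype.card_fin n
  -- the sum of a weight is 0
  have hc4 : ((Fintype.card (Fin n) : ℕ) : ZMod 4) = 0 := by
    rw [hcardι, ZMod.natCast_eq_zero_iff]
    exact h4
  have hwsum : ∀ μ, IsWt ψ ρ μ → ∑ i, μ i = 0 := by
    intro μ hμ
    refine sum_eq_zero_of_isWt hψ hμ hc4 (hsc _ ⟨ψ 1, ?_⟩)
    rw [mt_d]
    ext a b
    by_cases h : a = b
    · subst h; simp [sc]
    · simp [h]
  have hnil : ∀ M, (¬ ∃ y : Cfsg.PSU n F 3, orderOf y = 3 * M) → Nil ρ M := fun M hM g hg hgv =>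
    hsum M hM g hg (pow_eq_one_of_fixed hgv)
  by_cases hall : ∀ μ, IsWt ψ ρ μ → Cst μ
  · -- trivial action
    have hk : ρ.ker = ⊤ := trivial_of_d hF hψ (by omega) ρ.ker inferInstance
      (fun a => MonoidHom.mem_ker.2 (d_trivial hψ hall a))
    have h1 : ∀ g, ρ g = 1 := fun g => MonoidHom.mem_ker.1 (by rw [hk]; exact Subgroup.mem_top g)
    obtain ⟨r, hr, hro⟩ := Cfsg.Agent.H376.LPsl.exists_good (q := 3) (k := 2 * (n - 1)) (by norm_num) (by omega)
    obtain ⟨x, hx⟩ := exists_order (F := F) hF hn (even_iff_two_dvd.2 ((by norm_num : 2 ∣ 4).trans h4)) hr.prime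
      (by exact_mod_cast hro)
    obtain ⟨v, hv⟩ := exists_ne (0 : V)
    rcases hno x v with h | h
    · simp only [htriv h1] at h
      rw [sum_const, card_range, hx] at h
      have h3 : Nat.Coprime r 3 := by
        rw [Nat.coprime_comm, Nat.prime_three.coprime_iff_not_dvd]
        intro h3
        exact hr.cop ((Nat.prime_dvd_prime_iff_eq Nat.prime_three hr.prime).1 h3 ▸ dvd_refl _)
      apply hv
      have h4 := Nat.isCoprime_iff_coprime.2 h3
      obtain ⟨a, b, hab⟩ := h4
      have h5 : (a * (r : ℤ) + b * (3 : ℤ)) • v = 0 := by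
        have h6 : (r : ℤ) • v = 0 := by rw [natCast_zsmul, h]
        have h7 : (3 : ℤ) • v = 0 := by
          have := hV v
          exact_mod_cast this
        rw [add_smul, mul_smul, mul_smul, h6, h7, smul_zero, smul_zero, add_zero]
      have h6 : a * (r : ℤ) + b * (3 : ℤ) = 1 := by exact_mod_cast hab
      rwa [h6, one_smul] at h5
    · rw [hx] at h
      obtain ⟨y, hy⟩ := h
      refine Cfsg.Agent.H387.SuThree.no_three_mul hF (r := r) (s := 1) (c := 0) hr.prime (by norm_num) (by omega)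
        (order_nine (by omega) hro) ⟨y, ?_⟩
      rw [hy]
      ring
  · push Not at hall
    obtain ⟨μ, hμ, hμ'⟩ := hall
    -- the power of 3
    obtain ⟨i, hi1, hi2⟩ : ∃ i, 3 ^ (i + 2) < n ∧ n ≤ 3 ^ (i + 3) := by
      have h1 : 3 ^ 2 < n := by omega
      have hex : ∃ a, n ≤ 3 ^ a := ⟨n, (Nat.lt_pow_self (by norm_num)).le⟩
      have h2 := Nat.find_spec hex
      have h3 : 3 ≤ Nat.find hex := by
        by_contra hc
        have h5 : 3 ^ Nat.find hex ≤ 3 ^ 2 := Nat.pow_le_pow_right (by norm_num) (by omega)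
        omega
      refine ⟨Nat.find hex - 3, ?_, ?_⟩
      · have h4 := Nat.find_min hex (m := Nat.find hex - 1) (by omega)
        have h5 : Nat.find hex - 3 + 2 = Nat.find hex - 1 := by omega
        rw [h5]
        omega
      · have h5 : Nat.find hex - 3 + 3 = Nat.find hex := by omega
        rw [h5]
        exact h2
    by_cases h9 : 3 ^ (i + 2) + 9 ≤ n
    · -- case A
      have hA : ∀ u : G (Fin n) F, u ^ 3 ^ (i + 3) = 1 → ∑ l ∈ range (3 ^ (i + 3)), ρ (u ^ l) = 0 := by
        intro u hu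
        have hno3 : ¬ ∃ y : Cfsg.PSU n F 3, orderOf y = 3 * 3 ^ (i + 3) := by
          rintro ⟨y, hy⟩
          exact Cfsg.Agent.H387.SuThree.no_pow hF (a := i + 3) (by omega) hi2 ⟨y, by rw [hy]; ring⟩
        by_cases hord : orderOf u = 3 ^ (i + 3)
        · exact hsum _ hno3 u hord (fun k hk => pow_eq_one_of_three hu k hk)
        · obtain ⟨b, hb, hub⟩ := (Nat.dvd_prime_pow Nat.prime_three).1 (orderOf_dvd_of_pow_eq_one hu)
          have hb' : b < i + 3 := by
            rcases Nat.lt_or_ge b (i + 3) with h | h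
            · exact h
            · exfalso
              apply hord
              rw [hub, le_antisymm hb h]
          obtain ⟨c, hc⟩ := Nat.exists_eq_add_of_lt hb'
          have h3 : 3 ^ (i + 3) = 3 ^ b * 3 ^ (c + 1) := by rw [← pow_add]; congr 1
          rw [h3, sum_range_mul']
          apply sum_eq_zero
          intro l _
          have h5 : ∀ k, ρ (u ^ (l + 3 ^ b * k)) = ρ (u ^ l) := by
            intro k
            rw [pow_add, pow_mul, ← hub, pow_orderOf_eq_one, one_pow, mul_one]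
          simp only [h5]
          rw [sum_const, card_range, pow_succ, mul_smul]
          have h6 : (3 : ℕ) • ρ (u ^ l) = 0 := by
            have h7 := three_eq F
            rw [← Nat.cast_smul_eq_nsmul F]
            push_cast
            rw [h7, zero_smul]
          rw [h6, smul_zero]
      have hcl := caseA hF hψ (i := i) (by rw [hcardι]; exact h9) (by rw [hcardι]; exact h4) hwsum hA
      obtain ⟨r, hr, hro⟩ := Cfsg.Agent.H376.LPsl.exists_good (q := 3) (k := 2 * (n - 3)) (by norm_num) (by omega)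
      refine Cfsg.Agent.H762.SUThree.adj_false hF hψ hcardι hn
        (even_iff_two_dvd.2 ((by norm_num : 2 ∣ 4).trans h4)) hr.prime (by exact_mod_cast hro)
        (fun K hK h => trivial_of_d hF hψ (by rw [Fintype.card_fin]; omega) K hK h) hcl hμ ((hcl μ hμ).resolve_left hμ')
        (hnil _ (Cfsg.Agent.H387.SuThree.no_nine hF (by omega) hr.prime (order_nine (by omega) hro)))
    · -- case B
      have hmod : 3 ^ (i + 2) % 8 = 1 ∨ 3 ^ (i + 2) % 8 = 3 := by
        have : ∀ k : ℕ, 3 ^ k % 8 = 1 ∨ 3 ^ k % 8 = 3 := by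
          intro k
          induction k with
          | zero => left; norm_num
          | succ k ih => rw [pow_succ]; omega
        exact this _
      have hn3 : n = 3 ^ (i + 2) + 3 := by
        obtain ⟨t, ht⟩ := h4
        have h5 : n % 8 = 4 := by omega
        rcases hmod with h | h
        · omega
        · exfalso
          have h6 : n - 1 = 3 ^ (i + 2) := by omega
          rw [h6] at hp
          exact (Nat.Prime.not_prime_pow (by omega : 2 ≤ i + 2)) hp
      exact Cfsg.Agent.H762.SUThree.caseB hψ (fun K hK h => trivial_of_d hF hψ (by simp) K hK h) (b := i + 2) (by omega) (by rw [hcardι]; exact hn3) (by rw [hcardι]; exact h4) hwsum hμ hμ'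
        (hnil _ (Cfsg.Agent.H387.SuThree.no_eight hF (by omega) hn3 h4))

/-- **The cover.** -/
theorem cov {F : Type u} [Field F] [Fintype F] (hF : Fintype.card F = 9) {n : ℕ} (hn : 12 ≤ n) (h4 : 4 ∣ n)
    (h8 : ¬ 8 ∣ n) (hp : (n - 1).Prime) : Cfsg.Agent.H373.Recog.Cov.{u, v} (Cfsg.PSU n F 3) := by
  intro w hw V _ _ _ hV φ
  by_cases hw3 : w = 3
  · subst hw3
    exact cov_three hF hn h4 h8 hp hV φ
  · exact Cfsg.Agent.H892.SUCov.cov_ne_three hF hn h4 h8 hw hw3 hV φ

end Cfsg.Agent.H356.U3
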