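import Cfsg.Agent.H356.U3.Move

/-!
# Interface for the cover in characteristic 3 (helper356, S3464)

`Nil ρ M` : `∑ i < M, ρ g ^ i = 0` for every `g` of order `M` with a nonzero fixed vector in the natural module.
`Adj μ` : `μ = c + e_i - e_j`.
-/

set_option autoImplicit false
set_option linter.unusedSectionVars false

namespace Cfsg.Agent.H356.U3

open Matrix Finset

section Nil

variable {F : Type*} [Field F] [CharP F 3]
variable {ι : Type*} [Fintype ι] [DecidableEq ι] {κ : Type*} [Fintype κ] [DecidableEq κ]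
variable {V : Type*} [AddCommGroup V] [Module F V]

/-- the power sums vanish for the elements of order `M` with a fixed vector -/
def Nil (ρ : G ι F →* Module.End F V) (M : ℕ) : Prop :=
  ∀ g : G ι F, orderOf g = M → (∃ v : ι → F, v ≠ 0 ∧ mt g *ᵥ v = v) → ∑ i ∈ range M, ρ (g ^ i) = 0

/-- `μ` is constant -/
def Cst (μ : ι → ZMod 4) : Prop := ∃ c, ∀ i, μ i = c

/-- `μ = c + e_i - e_j` -/
def Adj (μ : ι → ZMod 4) : Prop :=
  ∃ (c : ZMod 4) (i j : ι), i ≠ j ∧ μ i = c + 1 ∧ μ j = c + 3 ∧ ∀ k, k ≠ i → k ≠ j → μ k = c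

theorem Nil.tr (e : ι ≃ κ) {ρ : G ι F →* Module.End F V} {M : ℕ} (h : Nil ρ M) : Nil (U3.tr e ρ) M := by
  rintro g hg ⟨v, hv, hgv⟩
  have h1 : ∀ i : ℕ, U3.tr e ρ (g ^ i) = ρ ((reix e).symm g ^ i) := by
    intro i
    show ρ ((reix e).symm (g ^ i)) = _
    rw [map_pow]
  simp only [h1]
  refine h _ (by rw [MulEquiv.orderOf_eq, hg]) ⟨v ∘ e, ?_, ?_⟩
  · intro h2
    apply hv
    funext i
    have := congrFun h2 (e.symm i)
    simpa using this
  · have h3 : mt ((reix e).symm g) = Matrix.reindex e.symm e.symm (mt g) := rfl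
    rw [h3]
    funext i
    have h4 := congrFun hgv (e i)
    rw [Function.comp_apply, ← h4, Matrix.mulVec, Matrix.mulVec, dotProduct, dotProduct, ← Equiv.sum_comp e]
    rfl

theorem Adj.comp {μ : κ → ZMod 4} (h : Adj μ) (e : ι ≃ κ) : Adj (μ ∘ e) := by
  obtain ⟨c, i, j, hij, h1, h2, h3⟩ := h
  refine ⟨c, e.symm i, e.symm j, fun h => hij (e.symm.injective h), by simpa using h1, by simpa using h2, ?_⟩
  intro k hk1 hk2
  exact h3 _ (fun h => hk1 (by rw [← h]; simp)) (fun h => hk2 (by rw [← h]; simp))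

theorem Cst.comp {μ : κ → ZMod 4} (h : Cst μ) (e : ι ≃ κ) : Cst (μ ∘ e) := by
  obtain ⟨c, hc⟩ := h
  exact ⟨c, fun i => hc _⟩

end Nil

end Cfsg.Agent.H356.U3
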