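import Cfsg.Agent.H356.U3.Mono

/-!
# Weights modulo 4 of representations of the special unitary group (helper356, S3464)
-/

set_option autoImplicit false
set_option linter.unusedSectionVars false

namespace Cfsg.Agent.H356.U3

open Matrix Finset

/-- **Independence of eigenvectors.** -/
theorem indep {F : Type*} [Field F] {V : Type*} [AddCommGroup V] [Module F V] {Γ τ : Type*} [DecidableEq τ]
    (f : Γ → Module.End F V) (t₀ : τ) : ∀ (T : Finset τ), t₀ ∉ T → ∀ (w : τ → V) (χ : τ → Γ → F),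
    (∀ t ∈ insert t₀ T, ∀ g, f g (w t) = χ t g • w t) → (∀ t ∈ T, ∃ g, χ t g ≠ χ t₀ g) →
    ∑ t ∈ insert t₀ T, w t = 0 → w t₀ = 0 := by
  intro T
  induction T using Finset.induction_on with
  | empty =>
    intro _ w χ _ _ h
    simpa using h
  | insert s T hs ih =>
    intro h0 w χ hχ hd hsum
    obtain ⟨g, hg⟩ := hd s (mem_insert_self _ _)
    have h1 : t₀ ∉ T := fun h => h0 (mem_insert_of_mem h)
    have h2 : t₀ ≠ s := fun h => h0 (h ▸ mem_insert_self _ _)
    have h3 := congrArg (fun v => f g v - χ s g • v) hsum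
    simp only [map_sum, map_zero, smul_zero, sub_zero, smul_sum] at h3
    rw [← sum_sub_distrib] at h3
    have h4 : ∑ t ∈ insert t₀ (insert s T), (f g (w t) - χ s g • w t) =
        ∑ t ∈ insert t₀ T, (χ t g - χ s g) • w t := by
      rw [Finset.insert_comm, sum_insert (a := s) (by
        rw [mem_insert, not_or]
        exact ⟨h2.symm, hs⟩)]
      rw [hχ s (by simp) g, sub_self, zero_add]
      refine sum_congr rfl fun t ht => ?_
      rw [hχ t (by
        rw [mem_insert] at ht ⊢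
        rcases ht with h | h
        · exact Or.inl h
        · exact Or.inr (mem_insert_of_mem h)) g, sub_smul]
    rw [h4] at h3
    have h5 := ih h1 (fun t => (χ t g - χ s g) • w t) χ (fun t ht g' => by
      rw [map_smul, hχ t (by
        rw [mem_insert] at ht ⊢
        rcases ht with h | h
        · exact Or.inl h
        · exact Or.inr (mem_insert_of_mem h)) g', smul_comm]) (fun t ht => hd t (mem_insert_of_mem ht)) h3
    have h6 : χ t₀ g - χ s g ≠ 0 := sub_ne_zero.2 (Ne.symm hg)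
    exact (smul_eq_zero.1 h5).resolve_left h6

section Wt

variable {F : Type*} [Field F] [CharP F 3] {ψ : AddChar (ZMod 4) F}
variable {ι : Type*} [Fintype ι] [DecidableEq ι] {κ : Type*} [Fintype κ] [DecidableEq κ]
variable {V : Type*} [AddCommGroup V] [Module F V]

/-- the pairing -/
def pr (μ : ι → ZMod 4) (a : A ι) : ZMod 4 := ∑ i, μ i * a.1 i

theorem pr_add (μ : ι → ZMod 4) (a b : A ι) : pr μ (a + b) = pr μ a + pr μ b := by
  rw [pr, pr, pr, ← sum_add_distrib]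
  refine sum_congr rfl fun i _ => ?_
  rw [← mul_add]
  rfl

theorem pr_const (μ : ι → ZMod 4) (c : ZMod 4) (a : A ι) : pr (fun i => μ i + c) a = pr μ a := by
  rw [pr, pr]
  have h : ∑ i, a.1 i = 0 := a.2
  have h1 : ∑ i, (μ i + c) * a.1 i = ∑ i, μ i * a.1 i + c * ∑ i, a.1 i := by
    rw [mul_sum, ← sum_add_distrib]
    refine sum_congr rfl fun i _ => by ring
  rw [h1, h, mul_zero, add_zero]

variable (ψ) in
/-- the weight space -/
def Wt (ρ : G ι F →* Module.End F V) (μ : ι → ZMod 4) : Submodule F V where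
  carrier := {w | ∀ a : A ι, ρ (d ψ a) w = ψ (pr μ a) • w}
  add_mem' := by
    intro v w hv hw a
    rw [map_add, hv a, hw a, smul_add]
  zero_mem' := by
    intro a
    rw [map_zero, smul_zero]
  smul_mem' := by
    intro c v hv a
    rw [map_smul, hv a, smul_comm]

theorem mem_Wt {ρ : G ι F →* Module.End F V} {μ : ι → ZMod 4} {w : V} :
    w ∈ Wt ψ ρ μ ↔ ∀ a : A ι, ρ (d ψ a) w = ψ (pr μ a) • w := Iff.rfl

theorem Wt_const (ρ : G ι F →* Module.End F V) (μ : ι → ZMod 4) (c : ZMod 4) :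
    Wt ψ ρ (fun i => μ i + c) = Wt ψ ρ μ := by
  ext w
  rw [mem_Wt, mem_Wt]
  simp only [pr_const]

variable (ψ) in
/-- the set of weights -/
def IsWt (ρ : G ι F →* Module.End F V) (μ : ι → ZMod 4) : Prop := ∃ w ∈ Wt ψ ρ μ, w ≠ 0

theorem IsWt.const {ρ : G ι F →* Module.End F V} {μ : ι → ZMod 4} (h : IsWt ψ ρ μ) (c : ZMod 4) :
    IsWt ψ ρ (fun i => μ i + c) := by
  obtain ⟨w, hw, h0⟩ := h
  exact ⟨w, by rw [Wt_const]; exact hw, h0⟩

variable (ψ) in
/-- the projection -/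
noncomputable def E (ρ : G ι F →* Module.End F V) (μ : ι → ZMod 4) (w : V) : V :=
  ∑ a : A ι, ψ (- pr μ a) • ρ (d ψ a) w

theorem E_comm (ρ : G ι F →* Module.End F V) (μ : ι → ZMod 4) (w : V) (b : A ι) :
    E ψ ρ μ (ρ (d ψ b) w) = ρ (d ψ b) (E ψ ρ μ w) := by
  rw [E, E, map_sum]
  refine sum_congr rfl fun a _ => ?_
  rw [map_smul, ← Module.End.mul_apply, ← Module.End.mul_apply, ← map_mul, ← map_mul, ← d_add, ← d_add, add_comm]

theorem E_mem (ρ : G ι F →* Module.End F V) (μ : ι → ZMod 4) (w : V) : E ψ ρ μ w ∈ Wt ψ ρ μ := by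
  intro b
  rw [E, map_sum, smul_sum]
  rw [← Equiv.sum_comp (Equiv.addRight b) (fun a => ψ (pr μ b) • ψ (-pr μ a) • ρ (d ψ a) w)]
  refine sum_congr rfl fun a _ => ?_
  rw [map_smul, ← Module.End.mul_apply, ← map_mul, ← d_add, Equiv.coe_addRight, add_comm b a, smul_smul,
    ← AddChar.map_add_eq_mul, pr_add]
  congr 2
  ring

theorem four_eq (F : Type*) [Field F] [CharP F 3] : (4 : F) = 1 := by
  have h : ((3 : ℕ) : F) = 0 := CharP.cast_eq_zero F 3
  have h2 : (3 : F) = 0 := by exact_mod_cast h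
  linear_combination h2

theorem sum_psi (hψ : Function.Injective ψ) (b : ZMod 4) : ∑ m : ZMod 4, ψ (-(m * b)) = if b = 0 then 1 else 0 := by
  have h3 : ∀ m : ZMod 4, -(m * b) = m * -b := fun m => by ring
  simp only [h3]
  have hz : ψ (0 : ZMod 4) = 1 := AddChar.map_zero_eq_one ψ
  have h2 := psi_two hψ
  have hF : ∀ f : ZMod 4 → F, ∑ m : ZMod 4, f m = f 0 + f 1 + f 2 + f 3 := fun f => Fin.sum_univ_four f
  rw [hF]
  have hcase : ∀ b : ZMod 4, b = 0 ∨ b = 1 ∨ b = 2 ∨ b = 3 := by decide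
  have h13 : ψ 3 = - ψ 1 := by
    have : (3 : ZMod 4) = 1 + 2 := by decide
    rw [this, AddChar.map_add_eq_mul, h2]
    ring
  rcases hcase (-b) with h | h | h | h
  · have hb : b = 0 := neg_eq_zero.1 h
    rw [h, if_pos hb]
    simp only [mul_zero, hz]
    have := four_eq F
    linear_combination this
  · have hb : b ≠ 0 := by rintro rfl; exact absurd h (by decide)
    rw [h, if_neg hb]
    have e0 : (0 : ZMod 4) * 1 = 0 := by decide
    have e1 : (1 : ZMod 4) * 1 = 1 := by decide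
    have e2 : (2 : ZMod 4) * 1 = 2 := by decide
    have e3 : (3 : ZMod 4) * 1 = 3 := by decide
    rw [e0, e1, e2, e3, hz, h2, h13]
    ring
  · have hb : b ≠ 0 := by rintro rfl; exact absurd h (by decide)
    rw [h, if_neg hb]
    have e0 : (0 : ZMod 4) * 2 = 0 := by decide
    have e1 : (1 : ZMod 4) * 2 = 2 := by decide
    have e2 : (2 : ZMod 4) * 2 = 0 := by decide
    have e3 : (3 : ZMod 4) * 2 = 2 := by decide
    rw [e0, e1, e2, e3, hz, h2]
    ring
  · have hb : b ≠ 0 := by rintro rfl; exact absurd h (by decide)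
    rw [h, if_neg hb]
    have e0 : (0 : ZMod 4) * 3 = 0 := by decide
    have e1 : (1 : ZMod 4) * 3 = 3 := by decide
    have e2 : (2 : ZMod 4) * 3 = 2 := by decide
    have e3 : (3 : ZMod 4) * 3 = 1 := by decide
    rw [e0, e1, e2, e3, hz, h2, h13]
    ring

theorem sum_E (hψ : Function.Injective ψ) (ρ : G ι F →* Module.End F V) (w : V) :
    ∑ μ : ι → ZMod 4, E ψ ρ μ w = w := by
  have h1 : ∑ μ : ι → ZMod 4, E ψ ρ μ w = ∑ a : A ι, (∑ μ : ι → ZMod 4, ψ (- pr μ a)) • ρ (d ψ a) w := by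
    simp only [E]
    rw [sum_comm]
    refine sum_congr rfl fun a _ => ?_
    rw [sum_smul]
  have h2 : ∀ a : A ι, ∑ μ : ι → ZMod 4, ψ (- pr μ a) = if a = 0 then 1 else 0 := by
    intro a
    have h3 : ∀ μ : ι → ZMod 4, ψ (- pr μ a) = ∏ i, ψ (-(μ i * a.1 i)) := by
      intro μ
      rw [pr, ← sum_neg_distrib, psi_sum]
    simp only [h3]
    rw [← Fintype.prod_sum (fun i m => ψ (-(m * a.1 i)))]
    simp only [sum_psi hψ]
    by_cases ha : a = 0
    · rw [if_pos ha]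
      apply prod_eq_one
      intro i _
      rw [if_pos]
      rw [ha]
      rfl
    · rw [if_neg ha]
      have : ∃ i, a.1 i ≠ 0 := by
        by_contra hcon
        push Not at hcon
        exact ha (Subtype.ext (funext hcon))
      obtain ⟨i, hi⟩ := this
      exact prod_eq_zero (mem_univ i) (if_neg hi)
  rw [h1, sum_eq_single 0]
  · rw [h2, if_pos rfl, one_smul, d_zero, map_one]
    rfl
  · intro a _ ha
    rw [h2, if_neg ha, zero_smul]
  · intro h
    exact absurd (mem_univ _) h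

/-- monomial elements permute the weight spaces -/
theorem mono_mem {ρ : G ι F →* Module.End F V} {μ : ι → ZMod 4} {w : V} (hw : w ∈ Wt ψ ρ μ) {a : ι → ZMod 4}
    {π : Equiv.Perm ι} (h : Ok ψ a π) : ρ (mono a π h) w ∈ Wt ψ ρ (μ ∘ ⇑π⁻¹) := by
  intro b
  rw [← Module.End.mul_apply, ← map_mul, mono_d, map_mul, Module.End.mul_apply, hw, map_smul]
  congr 2
  rw [pr, pr]
  rw [← Equiv.sum_comp π (fun i => (μ ∘ ⇑π⁻¹) i * b.1 i)]
  refine sum_congr rfl fun i _ => ?_
  simp [Aperm]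

theorem rho_inj (ρ : G ι F →* Module.End F V) (g : G ι F) {w : V} (hw : w ≠ 0) : ρ g w ≠ 0 := by
  intro h
  apply hw
  have h1 : ρ g⁻¹ (ρ g w) = w := by
    rw [← Module.End.mul_apply, ← map_mul, inv_mul_cancel, map_one]
    rfl
  rw [← h1, h, map_zero]

theorem IsWt.perm [Nonempty ι] (hψ : Function.Injective ψ) {ρ : G ι F →* Module.End F V} {μ : ι → ZMod 4}
    (h : IsWt ψ ρ μ) (π : Equiv.Perm ι) : IsWt ψ ρ (μ ∘ ⇑π) := by
  obtain ⟨w, hw, h0⟩ := h
  obtain ⟨a, ha⟩ := exists_ok (ψ := ψ) hψ π⁻¹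
  refine ⟨ρ (mono a π⁻¹ ha) w, ?_, rho_inj ρ _ h0⟩
  have := mono_mem hw ha
  rwa [inv_inv] at this

/-- transport of the representation -/
noncomputable def tr (e : ι ≃ κ) (ρ : G ι F →* Module.End F V) : G κ F →* Module.End F V :=
  ρ.comp (reix e).symm.toMonoidHom

theorem tr_reix (e : ι ≃ κ) (ρ : G ι F →* Module.End F V) (g : G ι F) : tr e ρ (reix e g) = ρ g := by
  show ρ ((reix e).symm (reix e g)) = ρ g
  rw [MulEquiv.symm_apply_apply]

theorem Wt_tr (e : ι ≃ κ) (ρ : G ι F →* Module.End F V) (μ : κ → ZMod 4) :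
    Wt ψ (tr e ρ) μ = Wt ψ ρ (μ ∘ e) := by
  have key : ∀ a : A ι, pr μ (Aequiv a e.symm) = pr (μ ∘ e) a := by
    intro a
    rw [pr, pr, ← Equiv.sum_comp e]
    refine sum_congr rfl fun i _ => ?_
    simp [Aequiv]
  ext w
  rw [mem_Wt, mem_Wt]
  constructor
  · intro h a
    rw [← tr_reix e ρ, reix_d, h, key]
  · intro h b
    have h1 : b = Aequiv (Aequiv b e) e.symm := by
      apply Subtype.ext
      funext i
      simp [Aequiv]
    rw [h1, ← reix_d, tr_reix, h, reix_d_pr_aux key]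
where
  reix_d_pr_aux {μ : κ → ZMod 4} {e : ι ≃ κ} (key : ∀ a : A ι, pr μ (Aequiv a e.symm) = pr (μ ∘ e) a) {a : A ι} :
      pr (μ ∘ e) a = pr μ (Aequiv a e.symm) := (key a).symm

theorem isWt_tr (e : ι ≃ κ) (ρ : G ι F →* Module.End F V) (μ : κ → ZMod 4) :
    IsWt ψ (tr e ρ) μ ↔ IsWt ψ ρ (μ ∘ e) := by
  rw [IsWt, IsWt, Wt_tr]

/-- the scalar of order four -/
def sc (h : ((Fintype.card ι : ℕ) : ZMod 4) = 0) : A ι := ⟨fun _ => 1, by
  rw [mem_A]
  simp [h]⟩

theorem sum_eq_zero_of_isWt (hψ : Function.Injective ψ) {ρ : G ι F →* Module.End F V} {μ : ι → ZMod 4}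
    (h : IsWt ψ ρ μ) (h4 : ((Fintype.card ι : ℕ) : ZMod 4) = 0) (hz : ρ (d ψ (sc h4)) = 1) : ∑ i, μ i = 0 := by
  obtain ⟨w, hw, h0⟩ := h
  have h1 := hw (sc h4)
  rw [hz] at h1
  have h2 : pr μ (sc h4) = ∑ i, μ i := by
    rw [pr]
    refine sum_congr rfl fun i _ => ?_
    show μ i * 1 = μ i
    rw [mul_one]
  rw [h2] at h1
  have h3 : (ψ (∑ i, μ i) - 1) • w = 0 := by
    rw [sub_smul, one_smul, ← h1]
    exact sub_self _
  rcases smul_eq_zero.1 h3 with h4 | h4
  · apply hψ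
    rw [AddChar.map_zero_eq_one]
    exact sub_eq_zero.1 h4
  · exact absurd h4 h0

/-- there is a weight component -/
theorem exists_E (hψ : Function.Injective ψ) (ρ : G ι F →* Module.End F V) {w : V} (hw : w ≠ 0) :
    ∃ μ : ι → ZMod 4, E ψ ρ μ w ≠ 0 := by
  by_contra hcon
  push Not at hcon
  apply hw
  rw [← sum_E hψ ρ w, sum_eq_zero fun μ _ => hcon μ]

/-- a difference `e_i - e_j` -/
def dif (i j : ι) : A ι := ⟨Pi.single i 1 - Pi.single j 1, by
  rw [mem_A]
  simp⟩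

theorem pr_dif (μ : ι → ZMod 4) (i j : ι) : pr μ (dif i j) = μ i - μ j := by
  rw [pr]
  have : ∀ k, μ k * (dif i j).1 k = μ k * (Pi.single i 1 : ι → ZMod 4) k - μ k * (Pi.single j 1 : ι → ZMod 4) k := by
    intro k
    rw [dif]
    simp only [Pi.sub_apply]
    rw [mul_sub]
  simp only [this]
  rw [sum_sub_distrib]
  simp [Pi.single_apply]

theorem const_of_eq (hψ : Function.Injective ψ) {ρ : G ι F →* Module.End F V} {μ ν : ι → ZMod 4} {w : V} (h0 : w ≠ 0)
    (h1 : w ∈ Wt ψ ρ μ) (h2 : w ∈ Wt ψ ρ ν) (i j : ι) : μ i - μ j = ν i - ν j := by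
  have h3 := h1 (dif i j)
  rw [h2 (dif i j), pr_dif, pr_dif] at h3
  have h4 : (ψ (ν i - ν j) - ψ (μ i - μ j)) • w = 0 := by rw [sub_smul, h3, sub_self]
  exact (hψ (sub_eq_zero.1 ((smul_eq_zero.1 h4).resolve_right h0))).symm

/-! ### the action of a block on a weight vector -/

/-- the block exponent: `1` on the first block, `- |ι|` at `j` -/
def blkA (j : κ) : A (ι ⊕ κ) := ⟨Sum.elim (fun _ => 1) (Pi.single j (-((Fintype.card ι : ℕ) : ZMod 4))), by
  rw [mem_A, Fintype.sum_sum_type]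
  simp⟩

theorem pr_blkA (μ : ι ⊕ κ → ZMod 4) (j : κ) :
    pr μ (blkA j) = ∑ i, μ (Sum.inl i) - (Fintype.card ι : ℕ) * μ (Sum.inr j) := by
  rw [pr, Fintype.sum_sum_type]
  simp only [blkA, Sum.elim_inl, Sum.elim_inr, mul_one]
  have : ∀ k, μ (Sum.inr k) * (Pi.single j (-((Fintype.card ι : ℕ) : ZMod 4)) : κ → ZMod 4) k =
      if k = j then - ((Fintype.card ι : ℕ) * μ (Sum.inr j)) else 0 := by
    intro k
    by_cases h : k = j
    · subst h; simp; ring
    · simp [h]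
  simp only [this]
  simp
  ring

/-- **Weights of a block translate.** A component of `ρ (inl g) w`, `w` of weight `μ`, has (after a shift) the same
values outside of the block and the same sum on the block. -/
theorem block_component [Nonempty κ] {ρ : G (ι ⊕ κ) F →* Module.End F V} (hψ : Function.Injective ψ)
    {μ ν : ι ⊕ κ → ZMod 4} {w : V} (hw : w ∈ Wt ψ ρ μ) (g : G ι F) (hν : E ψ ρ ν (ρ (inl g) w) ≠ 0) :
    ∃ ν' : ι ⊕ κ → ZMod 4, Wt ψ ρ ν' = Wt ψ ρ ν ∧ IsWt ψ ρ ν' ∧ (∀ j, ν' (Sum.inr j) = μ (Sum.inr j)) ∧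
      ∑ i, ν' (Sum.inl i) = ∑ i, μ (Sum.inl i) := by
  have key : ∀ (b : A (ι ⊕ κ)) (c : ZMod 4), (∀ i, b.1 (Sum.inl i) = c) → pr ν b = pr μ b := by
    intro b c hc
    have h1 : ρ (d ψ b) (ρ (inl g) w) = ψ (pr μ b) • ρ (inl g) w := by
      rw [← Module.End.mul_apply, ← map_mul, (inl_comm g b hc).eq, map_mul, Module.End.mul_apply, hw b, map_smul]
    have h2 := E_mem (ψ := ψ) ρ ν (ρ (inl g) w) b
    rw [← E_comm, h1] at h2
    have h3 : E ψ ρ ν (ψ (pr μ b) • ρ (inl g) w) = ψ (pr μ b) • E ψ ρ ν (ρ (inl g) w) := by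
      rw [E, E, smul_sum]
      refine sum_congr rfl fun a _ => ?_
      rw [map_smul, smul_comm]
    rw [h3] at h2
    have h4 : (ψ (pr μ b) - ψ (pr ν b)) • E ψ ρ ν (ρ (inl g) w) = 0 := by rw [sub_smul, h2, sub_self]
    exact (hψ (sub_eq_zero.1 ((smul_eq_zero.1 h4).resolve_right hν))).symm
  obtain ⟨j₀⟩ := ‹Nonempty κ›
  set c := μ (Sum.inr j₀) - ν (Sum.inr j₀) with hc
  refine ⟨fun i => ν i + c, Wt_const ρ ν c, ?_, ?_, ?_⟩
  · exact IsWt.const ⟨_, E_mem ρ ν _, hν⟩ c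
  · intro j
    have h1 := key (dif (Sum.inr j) (Sum.inr j₀)) 0 (fun i => by simp [dif])
    rw [pr_dif, pr_dif] at h1
    show ν (Sum.inr j) + c = _
    linear_combination h1
  · have h1 := key (blkA j₀) 1 (fun i => rfl)
    rw [pr_blkA, pr_blkA] at h1
    rw [sum_add_distrib, sum_const, card_univ, nsmul_eq_mul]
    linear_combination h1

/-- the whole translate lies in the weight space if there is only one possible weight -/
theorem block_mem [Nonempty κ] {ρ : G (ι ⊕ κ) F →* Module.End F V} (hψ : Function.Injective ψ)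
    {μ : ι ⊕ κ → ZMod 4} (huniq : ∀ ν : ι ⊕ κ → ZMod 4, IsWt ψ ρ ν → (∀ j, ν (Sum.inr j) = μ (Sum.inr j)) →
      ∑ i, ν (Sum.inl i) = ∑ i, μ (Sum.inl i) → ν = μ) {w : V} (hw : w ∈ Wt ψ ρ μ) (g : G ι F) :
    ρ (inl g) w ∈ Wt ψ ρ μ := by
  rw [← sum_E hψ ρ (ρ (inl g) w)]
  apply Submodule.sum_mem
  intro ν _
  by_cases h : E ψ ρ ν (ρ (inl g) w) = 0
  · rw [h]
    exact Submodule.zero_mem _
  · obtain ⟨ν', h1, h2, h3, h4⟩ := block_component hψ hw g h
    have h5 := huniq ν' h2 h3 h4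
    subst h5
    rw [h1]
    exact E_mem ρ ν _

end Wt

end Cfsg.Agent.H356.U3
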